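import Groth.Agent.L03.LWU.Cone.Split

/-!
# The estimates for cones
-/

set_option autoImplicit false
set_option linter.style.haveILetI false
universe u

open MvPolynomial

namespace Groth.L03.LWU

/-- The degree of the field of constants. -/
noncomputable def constDeg (k : Type u) [Field k] (L : Type u) [Field L] [Algebra k L] : ℕ :=
  Module.finrank k (algebraicClosure k L)

variable {k : Type u} [Field k] {L : Type u} [Field L] [Algebra k L] {n : ℕ} {x : Fin (n + 1) → L} {r : ℕ}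

/-- Every constant is a ratio of forms whose denominator does not vanish at the point. -/
def LocalConst (k : Type u) [Field k] {L : Type u} [Field L] [Algebra k L] {n : ℕ} (x : Fin (n + 1) → L)
    {k' : Type u} [Field k'] [Algebra k k'] (v : Fin (n + 1) → k') : Prop :=
  ∀ α : L, IsAlgebraic k α → ∃ (D : ℕ) (A B : MvPolynomial (Fin (n + 1)) k), A.IsHomogeneous D ∧ B.IsHomogeneous D ∧
    α * aeval x B = aeval x A ∧ aeval v B ≠ 0

theorem exists_algHom_of_localConst [Finite k] (hx : IsCone k x r) {d : ℝ} (hd : HasDeg k x r d) {k' : Type u}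
    [Field k'] [Algebra k k'] (v : Fin (n + 1) → k')
    (hv : ∀ P : MvPolynomial (Fin (n + 1)) k, aeval x P = 0 → aeval v P = 0) (hloc : LocalConst k x v) :
    Nonempty (algebraicClosure k L →ₐ[k] k') := by
  haveI := hx.finite_constants hd
  haveI : Finite (algebraicClosure k L) := Module.finite_of_finite k
  let pb := Field.powerBasisOfFiniteOfSeparable k (algebraicClosure k L)
  have hαi : IsIntegral k (pb.gen : L) := mem_algebraicClosure_iff'.mp pb.gen.2
  obtain ⟨D, A, B, -, -, hAB, hB⟩ := hloc (pb.gen : L) hαi.isAlgebraic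
  set g := minpoly k pb.gen
  let R : MvPolynomial (Fin (n + 1)) k :=
    ∑ i ∈ Finset.range (g.natDegree + 1), C (g.coeff i) * A ^ i * B ^ (g.natDegree - i)
  have hg0 : Polynomial.aeval (pb.gen : L) g = 0 := by
    rw [show (pb.gen : L) = (algebraicClosure k L).val pb.gen from rfl, Polynomial.aeval_algHom_apply, minpoly.aeval,
      map_zero]
  have hR : aeval x R = 0 := by
    have h : aeval x R = aeval x B ^ g.natDegree * Polynomial.aeval (pb.gen : L) g := by
      rw [Polynomial.aeval_eq_sum_range, Finset.mul_sum, map_sum]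
      refine Finset.sum_congr rfl fun i hi => ?_
      rw [map_mul, map_mul, map_pow, map_pow, aeval_C, ← hAB, Algebra.smul_def, mul_pow]
      obtain ⟨j, hj⟩ := Nat.exists_eq_add_of_le (Nat.lt_succ_iff.mp (Finset.mem_range.mp hi))
      rw [hj, Nat.add_sub_cancel_left, pow_add]
      ring
    rw [h, hg0, mul_zero]
  have h := hv R hR
  have hroot : Polynomial.aeval (aeval v A / aeval v B) g = 0 := by
    refine (mul_eq_zero_iff_left (pow_ne_zero g.natDegree hB)).mp ?_
    rw [Polynomial.aeval_eq_sum_range, Finset.mul_sum, ← h, map_sum]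
    refine Finset.sum_congr rfl fun i hi => ?_
    rw [map_mul, map_mul, map_pow, map_pow, aeval_C, Algebra.smul_def, div_pow]
    obtain ⟨j, hj⟩ := Nat.exists_eq_add_of_le (Nat.lt_succ_iff.mp (Finset.mem_range.mp hi))
    rw [hj, Nat.add_sub_cancel_left, pow_add, ← mul_div_assoc, ← mul_div_assoc, div_eq_iff (pow_ne_zero i hB)]
    ring
  exact ⟨pb.lift _ hroot⟩

theorem eq_zero_or_exists_ne {k' : Type u} [Field k'] (v : Fin (n + 1) → k') (hv : v ≠ 0) : ∃ i, v i ≠ 0 := by
  by_contra! h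
  exact hv (funext h)

theorem conePts_zero (hx : IsCone k x r) {k' : Type u} [Field k'] [Algebra k k'] :
    ∀ P : MvPolynomial (Fin (n + 1)) k, aeval x P = 0 → aeval (0 : Fin (n + 1) → k') P = 0 := by
  intro P hP
  have h := hx.homog P hP 0
  rw [homogeneousComponent_zero, aeval_C] at h
  rw [aeval_zero, constantCoeff_eq, (map_eq_zero _).mp h, map_zero]

theorem card_ne_zero_add_one {α : Type*} [Finite α] [Zero α] : Nat.card {a : α // a ≠ 0} + 1 = Nat.card α := by
  classical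
  rw [card_split' (fun a : α => a ≠ 0), show Nat.card {a : α // ¬ a ≠ 0} = 1 from
    Nat.card_eq_one_iff_unique.mpr ⟨⟨fun a b => Subtype.ext ((not_not.mp a.2).trans (not_not.mp b.2).symm)⟩,
      ⟨⟨0, fun h => h rfl⟩⟩⟩]

theorem card_nonzero_conePts (hx : IsCone k x r) (k' : Type u) [Field k'] [Algebra k k'] [Finite k'] :
    Nat.card {v : ConePts k x k' // v.1 ≠ 0} + 1 = Nat.card (ConePts k x k') := by
  letI : Zero (ConePts k x k') := ⟨⟨0, conePts_zero hx⟩⟩
  rw [← card_ne_zero_add_one (α := ConePts k x k'),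
    Nat.card_congr (Equiv.subtypeEquivRight (p := fun v : ConePts k x k' => v.1 ≠ 0) (q := fun v => v ≠ 0)
      fun v => not_congr ⟨fun h => Subtype.ext h, fun h => by rw [h]; rfl⟩)]

theorem card_nonzero_via (F : IntermediateField k L) (hF : IsCone F x r) {k' : Type u} [Field k'] [Finite k']
    (σ : F →+* k') : Nat.card {v : ViaPts F x σ // v.1 ≠ 0} + 1 = Nat.card (ViaPts F x σ) := by
  letI : Zero (ViaPts F x σ) := ⟨⟨0, via_zero F hF σ⟩⟩
  rw [← card_ne_zero_add_one (α := ViaPts F x σ),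
    Nat.card_congr (Equiv.subtypeEquivRight (p := fun v : ViaPts F x σ => v.1 ≠ 0) (q := fun v => v ≠ 0)
      fun v => not_congr ⟨fun h => Subtype.ext h, fun h => by rw [h]; rfl⟩)]

theorem main_algebra {m d1 : ℕ} {d : ℝ} (hm : 0 < m) (hd : d = m * d1) :
    (m : ℝ) * (((d1 : ℝ) - 1) * ((d1 : ℝ) - 2)) = (d - m) * (d - 2 * m) / m := by
  have : (m : ℝ) ≠ 0 := Nat.cast_ne_zero.mpr hm.ne'
  rw [hd]
  field_simp

/-- The exact splitting. -/
theorem split_exact (n r D0 : ℕ) : ∃ A : ℝ, 0 ≤ A ∧ ∀ {k : Type u} [Field k] [Finite k] {L : Type u} [Field L]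
    [Algebra k L] {x : Fin (n + 1) → L} {d : ℕ}, IsCone k x r → HasDeg k x r d → d ≤ D0 →
    ∀ (k' : Type u) [Field k'] [Algebra k k'] [Finite k'],
      (∀ v : Fin (n + 1) → k', (∀ P : MvPolynomial (Fin (n + 1)) k, aeval x P = 0 → aeval v P = 0) → v ≠ 0 →
        LocalConst k x v) →
      (constDeg k L ∣ Module.finrank k k' →
        |(Nat.card (ConePts k x k') : ℝ) - 1 - constDeg k L * ((Nat.card k' : ℝ) ^ (r + 1) - 1)| ≤
          (Nat.card k' : ℝ) ^ r *
            (((d : ℝ) - constDeg k L) * ((d : ℝ) - 2 * constDeg k L) / constDeg k L * Real.sqrt (Nat.card k') + A)) ∧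
      (¬ constDeg k L ∣ Module.finrank k k' → Nat.card (ConePts k x k') = 1) := by
  classical
  obtain ⟨A, hA, hvia⟩ := via_estimate.{u} n r D0
  refine ⟨(D0 : ℝ) * A, by positivity, fun {k} _ _ {L} _ _ {x d} hx hd hD0 k' _ _ _ hloc => ?_⟩
  haveI := hx.finite_constants hd
  haveI : Finite (algebraicClosure k L) := Module.finite_of_finite k
  obtain ⟨hM, hF, d1, hd1, hdd, hdF⟩ := hx.over_constants hd
  set m := Module.finrank k (algebraicClosure k L) with hm
  have hm0 : 0 < m := Module.finrank_pos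
  have hddn : d = m * d1 := by exact_mod_cast hdd
  have hmd : m ≤ D0 := le_trans (by rw [hddn]; exact Nat.le_mul_of_pos_right _ hd1) hD0
  have hd1D : d1 ≤ D0 := le_trans (by rw [hddn]; exact Nat.le_mul_of_pos_left _ hm0) hD0
  show (m ∣ _ → _) ∧ (¬ m ∣ _ → _)
  refine ⟨fun hdvd => ?_, fun hndvd => ?_⟩
  swap
  · refine Nat.card_eq_one_iff_unique.mpr ⟨⟨fun a b => ?_⟩, ⟨⟨0, conePts_zero hx⟩⟩⟩
    have key : ∀ a : ConePts k x k', a.1 = 0 := fun a => by
      by_contra h
      exact hndvd (FiniteField.nonempty_algHom_iff_finrank_dvd.mp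
        (exists_algHom_of_localConst hx hd a.1 a.2 (hloc a.1 a.2 h)))
    exact Subtype.ext ((key a).trans (key b).symm)
  haveI : Fintype (algebraicClosure k L →ₐ[k] k') := Fintype.ofFinite _
  have hcardσ : Fintype.card (algebraicClosure k L →ₐ[k] k') = m := by
    rw [Fintype.card_eq_nat_card, FiniteField.natCard_algHom_of_finrank_dvd hdvd]
  obtain ⟨σ₀⟩ := FiniteField.nonempty_algHom_iff_finrank_dvd.mpr hdvd
  let S := Σ σ : algebraicClosure k L →ₐ[k] k',
    {v : ViaPts (algebraicClosure k L) x (σ : algebraicClosure k L →+* k') // v.1 ≠ 0}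
  let Φ : S → {v : ConePts k x k' // v.1 ≠ 0} := fun s => ⟨⟨s.2.1.1, via_mem s.1 s.2.1⟩, s.2.2⟩
  have hΦ : Function.Bijective Φ := by
    refine ⟨fun s t h => ?_, fun v => ?_⟩
    · obtain ⟨σ, ⟨v, hv⟩, hv0⟩ := s
      obtain ⟨σ', ⟨v', hv'⟩, hv0'⟩ := t
      obtain rfl : v = v' := congrArg (fun e => e.1.1) h
      obtain rfl : σ = σ' := by
        by_contra hne
        obtain ⟨α, hα⟩ : ∃ α, σ α ≠ σ' α := by
          by_contra! h
          exact hne (AlgHom.ext h)
        obtain ⟨D, A, B, -, -, hAB, hB⟩ :=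
          hloc v (via_mem σ ⟨v, hv⟩) hv0 (α : L) (mem_algebraicClosure_iff'.mp α.2).isAlgebraic
        exact hB (via_separated σ σ' v hv hv' hα hAB)
      rfl
    · obtain ⟨σ, hσ⟩ := exists_via hx (algebraicClosure k L) σ₀ v.1.1 v.1.2
      exact ⟨⟨σ, ⟨v.1.1, hσ⟩, v.2⟩, rfl⟩
  have hcount : (Nat.card (ConePts k x k') : ℝ) - 1 =
      ∑ σ : algebraicClosure k L →ₐ[k] k',
        ((Nat.card (ViaPts (algebraicClosure k L) x (σ : algebraicClosure k L →+* k')) : ℝ) - 1) := by
    rw [← card_nonzero_conePts hx k', ← Nat.card_eq_of_bijective Φ hΦ, Nat.card_sigma]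
    push_cast
    rw [add_sub_cancel_right]
    refine Finset.sum_congr rfl fun σ _ => ?_
    rw [← card_nonzero_via _ hF (σ : algebraicClosure k L →+* k')]
    push_cast
    ring
  have hsum : (m : ℝ) * ((Nat.card k' : ℝ) ^ (r + 1) - 1) =
      ∑ _σ : algebraicClosure k L →ₐ[k] k', ((Nat.card k' : ℝ) ^ (r + 1) - 1) := by
    rw [Finset.sum_const, Finset.card_univ, hcardσ, nsmul_eq_mul]
  rw [show constDeg k L = m from rfl, hcount, hsum, ← Finset.sum_sub_distrib]
  refine (Finset.abs_sum_le_sum_abs _ _).trans ((Finset.sum_le_sum (g := fun _ => (Nat.card k' : ℝ) ^ r *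
    (((d1 : ℝ) - 1) * ((d1 : ℝ) - 2) * Real.sqrt (Nat.card k') + A)) fun σ _ => ?_).trans ?_)
  rotate_left
  · rw [Finset.sum_const, Finset.card_univ, hcardσ, nsmul_eq_mul]
    rw [← main_algebra hm0 hdd]
    have hmA : (m : ℝ) * A ≤ D0 * A := mul_le_mul_of_nonneg_right (by exact_mod_cast hmd) hA
    have hq : (0 : ℝ) ≤ (Nat.card k' : ℝ) ^ r := by positivity
    nlinarith [mul_le_mul_of_nonneg_left hmA hq]
  · rw [sub_sub_sub_cancel_right]
    exact hvia _ hF hM hdF hd1 hd1D (σ : algebraicClosure k L →+* k')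

/-- The splitting up to a set of lower dimension, for a given cone. -/
theorem split_approx [Finite k] (hx : IsCone k x r) {d : ℕ} (hd : HasDeg k x r d) :
    ∃ A : ℝ, 0 ≤ A ∧ ∀ (k' : Type u) [Field k'] [Algebra k k'] [Finite k'], constDeg k L ∣ Module.finrank k k' →
      |(Nat.card (ConePts k x k') : ℝ) - 1 - constDeg k L * ((Nat.card k' : ℝ) ^ (r + 1) - 1)| ≤
        (Nat.card k' : ℝ) ^ r *
          (((d : ℝ) - constDeg k L) * ((d : ℝ) - 2 * constDeg k L) / constDeg k L * Real.sqrt (Nat.card k') + A) := by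
  classical
  haveI := hx.finite_constants hd
  haveI : Finite (algebraicClosure k L) := Module.finite_of_finite k
  obtain ⟨hM, hF, d1, hd1, hdd, hdF⟩ := hx.over_constants hd
  set m := Module.finrank k (algebraicClosure k L) with hm
  have hm0 : 0 < m := Module.finrank_pos
  let β := Module.finBasis k (algebraicClosure k L)
  obtain ⟨c, b, hb, hb0, hβb⟩ := hx.exists_common_ratio (fun i => (β i : L))
    (fun i => (mem_algebraicClosure_iff'.mp (β i).2).isAlgebraic)
  obtain ⟨B, hB, hBv⟩ := mem_piece.mp hb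
  choose Af hAf hAfv using fun i => mem_piece.mp (hβb i)
  obtain ⟨A, hA, hvia⟩ := via_estimate.{u} n r d1
  obtain ⟨A', hA', hlow⟩ := via_low.{u} n r d1 c
  refine ⟨(m : ℝ) * (A + A' + 2), by positivity, fun k' _ _ _ hdvd => ?_⟩
  change m ∣ _ at hdvd
  show |_ - 1 - (m : ℝ) * _| ≤ _ * (((d : ℝ) - (m : ℕ)) * ((d : ℝ) - 2 * (m : ℕ)) / (m : ℕ) * _ + _)
  haveI : Fintype (algebraicClosure k L →ₐ[k] k') := Fintype.ofFinite _
  have hcardσ : Fintype.card (algebraicClosure k L →ₐ[k] k') = m := by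
    rw [Fintype.card_eq_nat_card, FiniteField.natCard_algHom_of_finrank_dvd hdvd]
  obtain ⟨σ₀⟩ := FiniteField.nonempty_algHom_iff_finrank_dvd.mpr hdvd
  let V := fun σ : algebraicClosure k L →ₐ[k] k' => ViaPts (algebraicClosure k L) x (σ : algebraicClosure k L →+* k')
  have hT_le : Nat.card (ConePts k x k') ≤ ∑ σ, Nat.card (V σ) := by
    rw [← Nat.card_sigma]
    refine Nat.card_le_card_of_surjective (fun s : Σ σ, V σ => (⟨s.2.1, via_mem s.1 s.2⟩ : ConePts k x k')) fun v => ?_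
    obtain ⟨σ, hσ⟩ := exists_via hx (algebraicClosure k L) σ₀ v.1 v.2
    exact ⟨⟨σ, v.1, hσ⟩, rfl⟩
  have hT_ge : ∑ σ, Nat.card (V σ) ≤ Nat.card (ConePts k x k') + ∑ σ, Nat.card {v : V σ // aeval v.1 B = 0} := by
    have h1 : ∀ σ, Nat.card (V σ) = Nat.card {v : V σ // ¬ aeval v.1 B = 0} + Nat.card {v : V σ // aeval v.1 B = 0} :=
      fun σ => by rw [card_split' (fun v : V σ => aeval v.1 B = 0), add_comm]
    rw [Finset.sum_congr rfl fun σ _ => h1 σ, Finset.sum_add_distrib]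
    refine Nat.add_le_add_right ?_ _
    rw [← Nat.card_sigma]
    refine Nat.card_le_card_of_injective
      (fun s : Σ σ, {v : V σ // ¬ aeval v.1 B = 0} => (⟨s.2.1.1, via_mem s.1 s.2.1⟩ : ConePts k x k')) fun s t h => ?_
    obtain ⟨σ, ⟨v, hv⟩, hv0⟩ := s
    obtain ⟨σ', ⟨v', hv'⟩, hv0'⟩ := t
    obtain rfl : v = v' := congrArg Subtype.val h
    obtain rfl : σ = σ' := by
      by_contra hne
      obtain ⟨i, hi⟩ : ∃ i, σ (β i) ≠ σ' (β i) := by
        by_contra! h
        exact hne (AlgHom.toLinearMap_injective (β.ext h))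
      exact hv0 (via_separated σ σ' v hv hv' hi (A := Af i) (B := B) (by rw [hBv]; exact (hAfv i).symm))
    rfl
  set T : ℝ := (Nat.card (ConePts k x k') : ℝ) with hTdef
  set Q : ℝ := (Nat.card k' : ℝ) with hQdef
  have hQ : 1 ≤ Q := Nat.one_le_cast.mpr Nat.card_pos
  have hQr : 1 ≤ Q ^ r := one_le_pow₀ hQ
  have hL : ∀ σ, (Nat.card {v : V σ // aeval v.1 B = 0} : ℝ) ≤ A' * Q ^ r := fun σ =>
    hlow _ hF hM hdF le_rfl σ B hB (hBv ▸ hb0)
  have hE : ∀ σ, |(Nat.card (V σ) : ℝ) - Q ^ (r + 1)| ≤ Q ^ r * (((d1 : ℝ) - 1) * ((d1 : ℝ) - 2) * Real.sqrt Q + A) :=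
    fun σ => hvia _ hF hM hdF hd1 le_rfl (σ : algebraicClosure k L →+* k')
  set E := Q ^ r * (((d1 : ℝ) - 1) * ((d1 : ℝ) - 2) * Real.sqrt Q + A)
  have hupper : T ≤ (m : ℝ) * (Q ^ (r + 1) + E) := by
    have h : T ≤ ∑ σ, (Nat.card (V σ) : ℝ) := by rw [hTdef]; exact_mod_cast hT_le
    refine h.trans ((Finset.sum_le_sum fun σ _ => (sub_le_iff_le_add'.mp (abs_le.mp (hE σ)).2)).trans ?_)
    rw [Finset.sum_const, Finset.card_univ, hcardσ, nsmul_eq_mul]
  have hlower : (m : ℝ) * (Q ^ (r + 1) - E) - (m : ℝ) * (A' * Q ^ r) ≤ T := by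
    have h : ∑ σ, (Nat.card (V σ) : ℝ) ≤ T + ∑ σ, (Nat.card {v : V σ // aeval v.1 B = 0} : ℝ) := by
      rw [hTdef]; exact_mod_cast hT_ge
    have h2 : ∑ σ, (Nat.card {v : V σ // aeval v.1 B = 0} : ℝ) ≤ (m : ℝ) * (A' * Q ^ r) := by
      refine (Finset.sum_le_sum fun σ _ => hL σ).trans ?_
      rw [Finset.sum_const, Finset.card_univ, hcardσ, nsmul_eq_mul]
    have h3 : (m : ℝ) * (Q ^ (r + 1) - E) ≤ ∑ σ, (Nat.card (V σ) : ℝ) := by
      refine le_trans ?_ (Finset.sum_le_sum fun σ _ => (show Q ^ (r + 1) - E ≤ (Nat.card (V σ) : ℝ) by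
        have := (abs_le.mp (hE σ)).1
        linarith))
      rw [Finset.sum_const, Finset.card_univ, hcardσ, nsmul_eq_mul]
    linarith
  rw [← main_algebra hm0 hdd]
  have hm1 : (1 : ℝ) ≤ m := by exact_mod_cast hm0
  have hA'0 : (0 : ℝ) ≤ (m : ℝ) * (A' * Q ^ r) := by positivity
  rw [abs_le]
  constructor <;> nlinarith

end Groth.L03.LWU
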