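import Groth.Agent.L03.LWU.Cone.Basic
import Groth.Agent.L03.LWU.Crit
import Mathlib.FieldTheory.Finite.Basic
import Mathlib.FieldTheory.PrimitiveElement

/-!
# Extending the finite field of constants
-/

set_option autoImplicit false
set_option linter.style.haveILetI false
universe u

open MvPolynomial

namespace Groth.L03.LWU

variable {k : Type u} [Field k] [Finite k] {L : Type u} [Field L] [Algebra k L]

/-- A finite extension of `k` is linearly disjoint from a field without new constants. -/
theorem linearIndependent_of_finite (hM : ∀ a : L, IsAlgebraic k a → a ∈ Set.range (algebraMap k L))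
    {Ω : Type u} [Field Ω] [Algebra k Ω] [Algebra L Ω] [IsScalarTower k L Ω] [IsAlgClosed Ω]
    {F : Type u} [Field F] [Algebra k F] [FiniteDimensional k F] (j : F →ₐ[k] Ω) :
    ∃ (pb : PowerBasis k F), LinearIndependent L fun i : Fin pb.dim => j pb.gen ^ (i : ℕ) := by
  haveI : Finite F := Module.finite_of_finite k
  let pb := Field.powerBasisOfFiniteOfSeparable k F
  refine ⟨pb, ?_⟩
  have hsep : IsSeparable k (j pb.gen) := by
    rw [IsSeparable, minpoly.algHom_eq j j.injective]
    exact Algebra.IsSeparable.isSeparable k pb.gen
  have h2 : pb.dim ≤ (minpoly L (j pb.gen)).natDegree := by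
    rw [← pb.natDegree_minpoly, ← minpoly.algHom_eq j j.injective]
    exact natDegree_minpoly_sep (fun a ha => hM a ha.isIntegral.isAlgebraic) hsep
  exact (linearIndependent_pow (K := L) (j pb.gen)).comp (Fin.castLE h2) (Fin.castLE_injective h2)

omit [Finite k] in
theorem exists_coord' {σ : Type*} {E : Type u} [Field E] [Algebra k E] {κ : Type*} [Fintype κ]
    (b : Module.Basis κ k E) (p : MvPolynomial σ E) :
    ∃ q : κ → MvPolynomial σ k, p = ∑ i, C (b i) * map (algebraMap k E) (q i) := by
  classical
  induction p using MvPolynomial.induction_on' with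
  | monomial e c =>
    refine ⟨fun i => monomial e (b.repr c i), ?_⟩
    simp only [map_monomial, C_mul_monomial, ← map_sum (monomial e)]
    congr 1
    conv_lhs => rw [← b.sum_repr c]
    exact Finset.sum_congr rfl fun i _ => by rw [Algebra.smul_def, mul_comm]
  | add p p' hp hp' =>
    obtain ⟨q, hq⟩ := hp
    obtain ⟨q', hq'⟩ := hp'
    refine ⟨q + q', ?_⟩
    simp only [Pi.add_apply, map_add, mul_add, Finset.sum_add_distrib, ← hq, ← hq']

theorem exists_baseChange {n : ℕ} {x : Fin (n + 1) → L} {r : ℕ} (hx : IsCone k x r)
    (hM : ∀ a : L, IsAlgebraic k a → a ∈ Set.range (algebraMap k L))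
    (k' : Type u) [Field k'] [Algebra k k'] [Finite k'] :
    ∃ (L' : Type u) (_ : Field L') (_ : Algebra k' L') (x' : Fin (n + 1) → L'), IsCone k' x' r ∧
      (∀ a : L', IsAlgebraic k' a → a ∈ Set.range (algebraMap k' L')) ∧
      (∀ D, coneDim k' x' D = coneDim k x D) ∧
      (∀ v : Fin (n + 1) → k', (∀ P : MvPolynomial (Fin (n + 1)) k', aeval x' P = 0 → aeval v P = 0) ↔
        ∀ P : MvPolynomial (Fin (n + 1)) k, aeval x P = 0 → aeval v P = 0) ∧
      ∀ S : MvPolynomial (Fin (n + 1)) k, aeval x S ≠ 0 → aeval x' (map (algebraMap k k') S) ≠ 0 := by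
  classical
  let Ω := AlgebraicClosure L
  let ι : k' →ₐ[k] Ω := IsAlgClosed.lift
  letI : Algebra k' Ω := ι.toRingHom.toAlgebra
  haveI : IsScalarTower k k' Ω := IsScalarTower.of_algebraMap_eq fun a => (ι.commutes a).symm
  haveI : FiniteDimensional k k' := Module.Finite.of_finite
  let jL : L →+* Ω := algebraMap L Ω
  let L' := IntermediateField.adjoin k' (Set.range (jL ∘ x))
  let x' : Fin (n + 1) → L' := fun i => ⟨jL (x i), IntermediateField.subset_adjoin _ _ ⟨i, rfl⟩⟩
  obtain ⟨pb, hli⟩ := linearIndependent_of_finite hM (Ω := Ω) ι
  let β : Fin pb.dim → Ω := fun i => ι pb.gen ^ (i : ℕ)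
  have hβ : ∀ i, algebraMap k' Ω (pb.basis i) = β i := fun i => by
    show ι (pb.basis i) = _
    rw [pb.coe_basis, map_pow]
  -- independence over `L`
  have hindep : ∀ z : Fin pb.dim → L, ∑ i, β i * jL (z i) = 0 → ∀ i, z i = 0 := by
    intro z hz
    refine Fintype.linearIndependent_iff.mp hli z ?_
    rw [← hz]
    exact Finset.sum_congr rfl fun i _ => by rw [Algebra.smul_def, mul_comm]
  have hval : ∀ P : MvPolynomial (Fin (n + 1)) k', ((aeval x' P : L') : Ω) = aeval (jL ∘ x) P := fun P => by
    rw [← IntermediateField.coe_val, ← AlgHom.comp_apply, comp_aeval]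
    rfl
  have hvalk : ∀ Q : MvPolynomial (Fin (n + 1)) k,
      aeval (jL ∘ x) (map (algebraMap k k') Q) = jL (aeval x Q) := fun Q => by
    rw [aeval_map_algebraMap, show jL (aeval x Q) = (IsScalarTower.toAlgHom k L Ω) (aeval x Q) from rfl,
      ← AlgHom.comp_apply, comp_aeval]
    rfl
  have hcoord : ∀ P : MvPolynomial (Fin (n + 1)) k', ∃ q : Fin pb.dim → MvPolynomial (Fin (n + 1)) k,
      P = ∑ i, C (pb.basis i) * map (algebraMap k k') (q i) ∧
      (aeval (jL ∘ x) P = ∑ i, β i * jL (aeval x (q i))) := fun P => by
    obtain ⟨q, hq⟩ := exists_coord pb.basis P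
    refine ⟨q, hq, ?_⟩
    conv_lhs => rw [hq]
    rw [map_sum]
    exact Finset.sum_congr rfl fun i _ => by rw [map_mul, aeval_C, hβ, hvalk]
  have hrel : ∀ P : MvPolynomial (Fin (n + 1)) k', aeval x' P = 0 →
      ∃ q : Fin pb.dim → MvPolynomial (Fin (n + 1)) k, P = ∑ i, C (pb.basis i) * map (algebraMap k k') (q i) ∧
        ∀ i, aeval x (q i) = 0 := fun P hP => by
    obtain ⟨q, hq, hqv⟩ := hcoord P
    refine ⟨q, hq, hindep _ ?_⟩
    rw [← hqv, ← hval, hP, ZeroMemClass.coe_zero]
  have hrelk : ∀ Q : MvPolynomial (Fin (n + 1)) k, aeval x Q = 0 → aeval x' (map (algebraMap k k') Q) = 0 := fun Q hQ => by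
    apply Subtype.ext
    rw [hval, hvalk, hQ, map_zero]
    rfl
  have hcomp : ∀ (q : Fin pb.dim → MvPolynomial (Fin (n + 1)) k) (D : ℕ),
      homogeneousComponent D (∑ i, C (pb.basis i) * map (algebraMap k k') (q i)) =
        ∑ i, C (pb.basis i) * map (algebraMap k k') (homogeneousComponent D (q i)) := fun q D => by
    rw [map_sum]
    refine Finset.sum_congr rfl fun i _ => ?_
    ext e
    simp only [coeff_homogeneousComponent, coeff_C_mul, coeff_map]
    split_ifs <;> simp
  -- transcendence degree
  have htr : Algebra.trdeg k' L' = (r + 1 : ℕ) := by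
    haveI : Algebra.IsAlgebraic (Algebra.adjoin k (Set.range x)) L := by
      refine ⟨fun z => ?_⟩
      obtain ⟨P, Q, hQ, hPQ⟩ := hx.exists_div z
      have hP' : aeval x P ∈ Algebra.adjoin k (Set.range x) := by
        rw [Algebra.adjoin_range_eq_range_aeval]; exact ⟨P, rfl⟩
      have hQ' : aeval x Q ∈ Algebra.adjoin k (Set.range x) := by
        rw [Algebra.adjoin_range_eq_range_aeval]; exact ⟨Q, rfl⟩
      refine ⟨Polynomial.C ⟨_, hQ'⟩ * Polynomial.X - Polynomial.C ⟨_, hP'⟩, fun h => hQ ?_, ?_⟩
      · have h1 := congrArg (fun p => Polynomial.coeff p 1) h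
        simp at h1
        exact congrArg Subtype.val h1
      · simp only [map_sub, map_mul, Polynomial.aeval_C, Polynomial.aeval_X]
        show aeval x Q * z - aeval x P = 0
        rw [← hPQ, mul_comm, sub_self]
    obtain ⟨t, hts, htb⟩ := exists_isTranscendenceBasis_subset (R := k) (Set.range x)
    have hcard : Cardinal.mk t = (r + 1 : ℕ) := by rw [htb.cardinalMk_eq_trdeg, hx.dim]
    haveI : Finite t := ((Set.finite_range x).subset hts).to_subtype
    choose p hp using fun a : t => hts a.2
    have hp_inj : Function.Injective p := fun a b h => Subtype.ext (by rw [← hp a, ← hp b, h])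
    let w : t → L' := fun a => x' (p a)
    have hw : AlgebraicIndependent k' w := by
      rw [algebraicIndependent_iff]
      intro P hP
      have h0 : rename p P = 0 := by
        -- all coordinates vanish
        obtain ⟨q', hq'⟩ := exists_coord' pb.basis P
        have hval' : ∑ i, β i * jL (aeval (fun a : t => (a : L)) (q' i)) = 0 := by
          have h1 : aeval (jL ∘ x) (rename p P) = 0 := by rw [← hval, aeval_rename, show x' ∘ p = w from rfl, hP, ZeroMemClass.coe_zero]
          rw [← h1, hq', map_sum, map_sum]
          refine Finset.sum_congr rfl fun i _ => ?_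
          rw [map_mul, rename_C, ← map_rename, map_mul, aeval_C, hβ, hvalk, aeval_rename]
          congr 3
          exact congrArg aeval (funext fun a => (hp a).symm)
        have h2 := hindep _ hval'
        rw [hq', map_sum]
        refine Finset.sum_eq_zero fun i _ => ?_
        rw [show q' i = 0 from algebraicIndependent_iff.mp htb.1 _ (h2 i)]
        simp
      exact rename_injective p hp_inj (by rw [h0, map_zero])
    haveI : Algebra.IsAlgebraic (Algebra.adjoin k' (Set.range w)) L' := by
      let E := IntermediateField.adjoin k' (Set.range w)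
      have hxalg : ∀ i, IsAlgebraic E (x' i) := fun i => by
        haveI := htb.isAlgebraic
        have halg : IsAlgebraic (Algebra.adjoin k (Set.range ((↑) : t → L))) (x i) := Algebra.IsAlgebraic.isAlgebraic _
        obtain ⟨g, hg0, hg⟩ := halg
        have hmem : ∀ a ∈ Algebra.adjoin k (Set.range ((↑) : t → L)), jL a ∈ (E.map L'.val) := by
          intro a ha
          have hle : Algebra.adjoin k (Set.range ((↑) : t → L)) ≤
              ((E.map L'.val).toSubalgebra.restrictScalars k).comap (IsScalarTower.toAlgHom k L Ω) := by
            refine Algebra.adjoin_le ?_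
            rintro _ ⟨b, rfl⟩
            show jL (b : L) ∈ E.map L'.val
            exact ⟨w b, IntermediateField.subset_adjoin _ _ ⟨b, rfl⟩, by show jL (x (p b)) = jL b; rw [hp]⟩
          exact hle ha
        let φ : Algebra.adjoin k (Set.range ((↑) : t → L)) →+* E :=
          { toFun := fun a => ⟨⟨jL a, by obtain ⟨e, -, he⟩ := hmem a a.2; exact he ▸ (e : L').2⟩, by
              obtain ⟨e, he, he'⟩ := hmem a a.2
              exact (show e = (⟨jL a, _⟩ : L') from Subtype.ext he') ▸ he⟩
            map_one' := by apply Subtype.ext; apply Subtype.ext; exact map_one jL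
            map_mul' := fun a b => by apply Subtype.ext; apply Subtype.ext; exact map_mul jL _ _
            map_zero' := by apply Subtype.ext; apply Subtype.ext; exact map_zero jL
            map_add' := fun a b => by apply Subtype.ext; apply Subtype.ext; exact map_add jL _ _ }
        have hφ : Function.Injective φ := fun a b h =>
          Subtype.ext (jL.injective (congrArg (fun e : E => ((e : L') : Ω)) h))
        refine ⟨g.map φ, (Polynomial.map_ne_zero_iff hφ).mpr hg0, ?_⟩
        apply Subtype.ext
        rw [ZeroMemClass.coe_zero, ← map_zero jL, ← hg, Polynomial.aeval_def, Polynomial.eval₂_map,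
          Polynomial.aeval_def, Polynomial.hom_eval₂]
        rw [← IntermediateField.coe_val, show (L'.val : L' → Ω) = L'.val.toRingHom from rfl, Polynomial.hom_eval₂]
        rfl
      haveI : Algebra.IsAlgebraic E L' := by
        refine ⟨fun z => ?_⟩
        have htop : IntermediateField.adjoin k' (Set.range x') = ⊤ := by
          refine IntermediateField.map_injective L'.val ?_
          rw [IntermediateField.adjoin_map, ← AlgHom.fieldRange_eq_map, IntermediateField.fieldRange_val, ← Set.range_comp]
          rfl
        have hle : IntermediateField.adjoin k' (Set.range x') ≤ (algebraicClosure E L').restrictScalars k' :=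
          IntermediateField.adjoin_le_iff.mpr fun _ ⟨i, hi⟩ => hi ▸ mem_algebraicClosure_iff.mpr (hxalg i)
        exact mem_algebraicClosure_iff.mp (hle (by rw [htop]; trivial : z ∈ IntermediateField.adjoin k' (Set.range x')))
      letI : Algebra (Algebra.adjoin k' (Set.range w)) E :=
        (Subalgebra.inclusion (IntermediateField.algebra_adjoin_le_adjoin k' (Set.range w))).toRingHom.toAlgebra
      haveI : IsScalarTower (Algebra.adjoin k' (Set.range w)) E L' := IsScalarTower.of_algebraMap_eq fun _ => rfl
      haveI : Algebra.IsAlgebraic (Algebra.adjoin k' (Set.range w)) E := by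
        refine ⟨fun z => ?_⟩
        obtain ⟨a, ha, b, hb, hz⟩ := IntermediateField.mem_adjoin_iff_div.mp z.2
        by_cases hb0 : b = 0
        · have h0 : z = 0 := by
            apply Subtype.ext
            show (z : L') = 0
            rw [hz, hb0, div_zero]
          rw [h0]
          exact isAlgebraic_zero
        refine ⟨Polynomial.C ⟨b, hb⟩ * Polynomial.X - Polynomial.C ⟨a, ha⟩, fun h => hb0 ?_, ?_⟩
        · have h1 := congrArg (fun p => Polynomial.coeff p 1) h
          simp at h1
          exact congrArg Subtype.val h1
        · apply Subtype.ext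
          simp only [map_sub, map_mul, Polynomial.aeval_C, Polynomial.aeval_X]
          show b * (z : L') - a = 0
          rw [hz, mul_div_cancel₀ _ hb0, sub_self]
      exact Algebra.IsAlgebraic.trans _ E L'
    have hbw : IsTranscendenceBasis k' w :=
      isTranscendenceBasis_iff_algebraicIndependent_isAlgebraic.mpr ⟨hw, inferInstance⟩
    rw [← hbw.cardinalMk_eq_trdeg, hcard]
  refine ⟨L', inferInstance, inferInstance, x', ⟨fun P hP D => ?_, ?_, htr⟩, fun a ha => ?_, fun D => ?_, fun v => ?_,
    fun S hS h => ?_⟩
  · obtain ⟨q, hq, hq0⟩ := hrel P hP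
    rw [hq, hcomp, map_sum]
    exact Finset.sum_eq_zero fun i _ => by rw [map_mul, hrelk _ (hx.homog _ (hq0 i) D), mul_zero]
  · refine IntermediateField.map_injective L'.val ?_
    rw [IntermediateField.adjoin_map, ← AlgHom.fieldRange_eq_map, IntermediateField.fieldRange_val, ← Set.range_comp]
    rfl
  · -- no new constants
    haveI := ha.isIntegral
    let F := IntermediateField.adjoin k' ({a} : Set L')
    haveI : FiniteDimensional k' F := IntermediateField.adjoin.finiteDimensional ha.isIntegral
    haveI : FiniteDimensional k F := Module.Finite.trans k' F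
    obtain ⟨pF, hF⟩ := linearIndependent_of_finite hM (Ω := Ω) ((L'.val.comp F.val).restrictScalars k)
    let V := IntermediateField.adjoin L ({ι pb.gen} : Set Ω)
    have hV : ∀ z : L', (z : Ω) ∈ V := by
      intro z
      have hk' : ∀ c : k', algebraMap k' Ω c ∈ V := fun c => by
        rw [← pb.basis.sum_repr c, map_sum]
        refine sum_mem fun i _ => ?_
        rw [Algebra.smul_def, map_mul, hβ, ← IsScalarTower.algebraMap_apply k k' Ω, IsScalarTower.algebraMap_apply k L Ω]
        exact mul_mem (V.algebraMap_mem _) (pow_mem (IntermediateField.mem_adjoin_simple_self L _) _)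
      have hle : L' ≤ Subfield.toIntermediateField V.toSubfield hk' :=
        IntermediateField.adjoin_le_iff.mpr (by
          rintro _ ⟨i, rfl⟩
          exact V.algebraMap_mem (x i))
      exact hle z.2
    have hgen : IsIntegral L (ι pb.gen) := by
      have h : IsIntegral k (ι pb.gen) := (Algebra.IsIntegral.isIntegral pb.gen).map ι
      exact h.tower_top
    haveI : FiniteDimensional L V := IntermediateField.adjoin.finiteDimensional hgen
    let wv : Fin pF.dim → V := fun i => ⟨_, pow_mem (hV (F.val pF.gen)) (i : ℕ)⟩
    have hwv : LinearIndependent L wv := LinearIndependent.of_comp V.val.toLinearMap hF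
    have h1 := hwv.fintype_card_le_finrank
    rw [Fintype.card_fin, IntermediateField.adjoin.finrank hgen] at h1
    have h2 : (minpoly L (ι pb.gen)).natDegree ≤ pb.dim := by
      rw [← pb.natDegree_minpoly, ← minpoly.algHom_eq ι ι.injective pb.gen]
      refine le_of_le_of_eq (Polynomial.natDegree_le_of_dvd (minpoly.dvd_map_of_isScalarTower k L _) ?_)
        (Polynomial.natDegree_map _)
      exact (Polynomial.map_ne_zero_iff (algebraMap k L).injective).mpr
        (minpoly.ne_zero ((Algebra.IsIntegral.isIntegral pb.gen).map ι))
    have h3 : Module.finrank k' F = 1 := by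
      have := Module.finrank_mul_finrank k k' F
      rw [← pb.finrank, ← pF.finrank] at *
      have hpos : 0 < Module.finrank k k' := Module.finrank_pos
      have hF1 : 1 ≤ Module.finrank k' F := Module.finrank_pos
      nlinarith
    have h4 : a ∈ F := IntermediateField.mem_adjoin_simple_self k' a
    rw [IntermediateField.finrank_eq_one_iff] at h3
    rw [h3] at h4
    exact IntermediateField.mem_bot.mp h4
  · -- the pieces
    let B := Module.finBasis k (piece k x D)
    let z : Fin (Module.finrank k (piece k x D)) → L' := fun j => ⟨jL (B j : L), by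
      obtain ⟨P, -, hP⟩ := mem_piece.mp (B j).2
      rw [← hP, ← hvalk, ← hval]
      exact SetLike.coe_mem _⟩
    have hzli : LinearIndependent k' z := by
      rw [Fintype.linearIndependent_iff]
      intro c hc j
      have h0 : ∑ j, algebraMap k' Ω (c j) * jL (B j : L) = 0 := by
        have h := congrArg (fun e : L' => (e : Ω)) hc
        simp only [IntermediateField.coe_sum, IntermediateField.coe_smul, ZeroMemClass.coe_zero] at h
        rw [← h]
        exact Finset.sum_congr rfl fun j _ => (Algebra.smul_def _ _).symm
      have h1 : ∑ i, β i * jL (∑ j, algebraMap k L (pb.basis.repr (c j) i) * (B j : L)) = 0 := by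
        rw [← h0]
        simp only [map_sum, map_mul, Finset.mul_sum]
        rw [Finset.sum_comm]
        refine Finset.sum_congr rfl fun j _ => ?_
        conv_rhs => rw [← pb.basis.sum_repr (c j), map_sum, Finset.sum_mul]
        refine Finset.sum_congr rfl fun i _ => ?_
        rw [Algebra.smul_def, map_mul, hβ, ← IsScalarTower.algebraMap_apply k k' Ω,
          show jL (algebraMap k L (pb.basis.repr (c j) i)) = algebraMap k Ω (pb.basis.repr (c j) i) from
            (IsScalarTower.algebraMap_apply k L Ω _).symm]
        ring
      have h2 := hindep _ h1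
      apply pb.basis.repr.injective
      refine Finsupp.ext fun i => ?_
      rw [map_zero, Finsupp.zero_apply]
      have hBli : LinearIndependent k fun j => (B j : L) :=
        B.linearIndependent.map' (piece k x D).subtype (Submodule.ker_subtype _)
      refine Fintype.linearIndependent_iff.mp hBli (fun j => pb.basis.repr (c j) i) ?_ j
      simp only [Algebra.smul_def]
      exact h2 i
    have hspan : piece k' x' D = Submodule.span k' (Set.range z) := by
      refine le_antisymm (fun w hw => ?_) (Submodule.span_le.mpr ?_)
      · obtain ⟨P, hP, rfl⟩ := mem_piece.mp hw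
        obtain ⟨q, hq⟩ := exists_coord pb.basis P
        have hP' : P = ∑ i, C (pb.basis i) * map (algebraMap k k') (homogeneousComponent D (q i)) := by
          rw [← hcomp, ← hq, homogeneousComponent_of_mem hP, if_pos rfl]
        rw [hP', map_sum]
        refine Submodule.sum_mem _ fun i _ => ?_
        rw [map_mul, aeval_C, ← Algebra.smul_def]
        refine Submodule.smul_mem _ _ ?_
        have hmem : aeval x (homogeneousComponent D (q i)) ∈ piece k x D :=
          aeval_mem_piece (homogeneousComponent_isHomogeneous D _)
        have he : aeval x' (map (algebraMap k k') (homogeneousComponent D (q i))) =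
            ∑ j, algebraMap k k' (B.repr ⟨_, hmem⟩ j) • z j := by
          apply Subtype.ext
          rw [hval, hvalk]
          simp only [IntermediateField.coe_sum, IntermediateField.coe_smul, z]
          conv_lhs => rw [show aeval x (homogeneousComponent D (q i)) = ((⟨_, hmem⟩ : piece k x D) : L) from rfl,
            ← B.sum_repr ⟨_, hmem⟩, Submodule.coe_sum, map_sum]
          refine Finset.sum_congr rfl fun j _ => ?_
          rw [Submodule.coe_smul, Algebra.smul_def, Algebra.smul_def, map_mul, ← IsScalarTower.algebraMap_apply k k' Ω,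
            IsScalarTower.algebraMap_apply k L Ω]
        rw [he]
        exact Submodule.sum_mem _ fun j _ => Submodule.smul_mem _ _ (Submodule.subset_span ⟨j, rfl⟩)
      · rintro _ ⟨j, rfl⟩
        obtain ⟨P, hP, hPe⟩ := mem_piece.mp (B j).2
        refine mem_piece.mpr ⟨map (algebraMap k k') P, hP.map _, Subtype.ext ?_⟩
        rw [hval, hvalk, hPe]
    show Module.finrank k' (piece k' x' D) = Module.finrank k (piece k x D)
    rw [hspan, finrank_span_eq_card hzli, Fintype.card_fin]
  · constructor
    · intro h Q hQ
      have := h _ (hrelk Q hQ)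
      rwa [aeval_map_algebraMap] at this
    · intro h P hP
      obtain ⟨q, hq, hq0⟩ := hrel P hP
      rw [hq, map_sum]
      exact Finset.sum_eq_zero fun i _ => by rw [map_mul, aeval_map_algebraMap, h _ (hq0 i), mul_zero]
  · apply hS
    apply jL.injective
    rw [map_zero, ← hvalk, ← hval, h, ZeroMemClass.coe_zero]

end Groth.L03.LWU
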