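import Groth.Agent.L03.LWU.Cone.Model
import Groth.Agent.L03.LWU.Cone.BaseChange
import Mathlib.FieldTheory.IsAlgClosed.Basic

/-!
# The degree of a cone without new constants is an integer
-/

set_option autoImplicit false
set_option linter.style.haveILetI false
universe u v

open MvPolynomial Filter

namespace Groth.L03.LWU

theorem choose_sub_le (r a j : ℕ) :
    (a + j + (r + 1)).choose (r + 1) ≤ (a + (r + 1)).choose (r + 1) + j * (a + j + r).choose r := by
  induction j with
  | zero => simp
  | succ j ih =>
    rw [show a + (j + 1) + (r + 1) = (a + j + (r + 1)) + 1 by omega, Nat.choose_succ_succ']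
    have h1 : (a + j + (r + 1)).choose r ≤ (a + (j + 1) + r).choose r := Nat.choose_le_choose r (by omega)
    have h2 : (a + j + r).choose r ≤ (a + (j + 1) + r).choose r := Nat.choose_le_choose r (by omega)
    have h3 : j * (a + j + r).choose r ≤ j * (a + (j + 1) + r).choose r := Nat.mul_le_mul_left j h2
    rw [add_mul, one_mul]
    omega

variable {k : Type u} [Field k] {L : Type v} [Field L] [Algebra k L] {n : ℕ} {x : Fin (n + 1) → L} {r : ℕ}

theorem Model.coneDim_le (M : Model k x r) {D : ℕ} (hD : M.e ≤ D) :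
    coneDim k x D ≤ M.e * (D + (M.c + r)).choose r := by
  classical
  let u : Fin (r + 2) → L := Fin.cons M.θ M.y
  haveI := (finrank_forms k (r + 1) (D + M.c)).1
  haveI := (finrank_forms k (r + 1) (D + M.c - M.e)).1
  let φ := (aeval u : MvPolynomial (Fin (r + 2)) k →ₐ[k] L).toLinearMap.comp
      (homogeneousSubmodule (Fin (r + 2)) k (D + M.c)).subtype
  let μ : homogeneousSubmodule (Fin (r + 2)) k (D + M.c - M.e) →ₗ[k] homogeneousSubmodule (Fin (r + 2)) k (D + M.c) :=
    LinearMap.codRestrict _ ((LinearMap.mulLeft k M.G).comp (Submodule.subtype _)) fun R => by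
      show M.G * R.1 ∈ _
      rw [mem_homogeneousSubmodule]
      have := M.G_hom.mul R.2
      rwa [Nat.add_sub_cancel' (by omega : M.e ≤ D + M.c)] at this
  have hμ : Function.Injective μ := fun a b h =>
    Subtype.ext (mul_left_cancel₀ M.G_irr.ne_zero (congrArg Subtype.val h :))
  have hle : LinearMap.range μ ≤ LinearMap.ker φ := by
    rintro _ ⟨R, rfl⟩
    show aeval u (M.G * R.1) = 0
    rw [map_mul, (M.ker M.G).mpr dvd_rfl, zero_mul]
  have h1 : (D + M.c - M.e + (r + 1)).choose (r + 1) ≤ Module.finrank k (LinearMap.ker φ) := by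
    rw [← (finrank_forms k (r + 1) (D + M.c - M.e)).2, ← LinearMap.finrank_range_of_inj hμ]
    exact Submodule.finrank_mono hle
  have hΔ0 : aeval M.y M.Δ ≠ 0 := fun h0 =>
    M.Δ_ne (algebraicIndependent_iff_injective_aeval.mp M.indep (by rw [h0, map_zero]))
  let ψ : piece k x D →ₗ[k] LinearMap.range φ :=
    LinearMap.codRestrict _ ((LinearMap.mulLeft k (aeval M.y M.Δ)).comp (piece k x D).subtype) fun z => by
      obtain ⟨Q, hQ, hQz⟩ := M.mul_mem D z.1 z.2
      exact ⟨⟨Q, hQ⟩, hQz⟩
  have hψ : Function.Injective ψ := fun a b h =>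
    Subtype.ext (mul_left_cancel₀ hΔ0 (congrArg Subtype.val h :))
  have h2 : coneDim k x D ≤ Module.finrank k (LinearMap.range φ) := LinearMap.finrank_le_finrank_of_injective hψ
  have h3 := LinearMap.finrank_range_add_finrank_ker φ
  rw [(finrank_forms k (r + 1) (D + M.c)).2] at h3
  have h4 := choose_sub_le r (D + M.c - M.e) M.e
  rw [Nat.sub_add_cancel (by omega : M.e ≤ D + M.c)] at h4
  rw [show D + (M.c + r) = D + M.c + r by omega]
  omega

theorem Model.le_e (M : Model k x r) {d : ℝ} (hd : HasDeg k x r d) : d ≤ M.e :=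
  hd.le_of_le_choose (a := M.c + r) (eventually_atTop.mpr ⟨M.e, fun D hD => by exact_mod_cast M.coneDim_le hD⟩)

/-- The degree is at least one. -/
theorem IsCone.one_le_deg (hx : IsCone k x r) {d : ℝ} (hd : HasDeg k x r d) : 1 ≤ d := by
  classical
  haveI := (normFam_self (k := k) (x := x)).isAlgebraic hx
  obtain ⟨t, hts, htb⟩ := exists_isTranscendenceBasis_subset (R := k) (Set.range x)
  haveI : Finite t := ((Set.finite_range x).subset hts).to_subtype
  have hcard : Nat.card t = r + 1 := by
    have h := htb.cardinalMk_eq_trdeg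
    rw [hx.dim] at h
    rw [Nat.card, h, Cardinal.toNat_natCast]
  let et : Fin (r + 1) ≃ t := (Finite.equivFinOfCardEq hcard).symm
  have hv : AlgebraicIndependent k fun i => (et i : L) := htb.1.comp et et.injective
  have hvp : ∀ i, (et i : L) ∈ piece k x 1 := fun i => by
    obtain ⟨j, hj⟩ := hts (et i).2
    exact hj ▸ mem_piece_one j
  refine hd.le_of_choose_le (a := 0) (Eventually.of_forall fun D => ?_)
  rw [one_mul, Nat.cast_le, add_zero]
  haveI := (finrank_forms k r D).1
  let B := Module.finBasis k (homogeneousSubmodule (Fin (r + 1)) k D)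
  have h1 : LinearIndependent k fun i => aeval (fun i => (et i : L)) (B i).1 :=
    (B.linearIndependent.map' (homogeneousSubmodule (Fin (r + 1)) k D).subtype (Submodule.ker_subtype _)).map'
      (aeval fun i => (et i : L)).toLinearMap (LinearMap.ker_eq_bot.mpr (algebraicIndependent_iff_injective_aeval.mp hv))
  have h := le_coneDim_of_linearIndependent h1 fun i => aeval_forms_mem_piece_one hvp (B i).2
  rwa [Fintype.card_fin, (finrank_forms k r D).2] at h

theorem exists_large_ext (k : Type u) [Field k] [Finite k] (T : ℕ) :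
    ∃ (k' : Type u) (_ : Field k') (_ : Algebra k k') (_ : Finite k'), T < Nat.card k' := by
  let Ω := AlgebraicClosure k
  haveI : Infinite Ω := IsAlgClosed.instInfinite
  obtain ⟨S, hS⟩ := Infinite.exists_subset_card_eq Ω (T + 1)
  let F := IntermediateField.adjoin k (S : Set Ω)
  haveI : FiniteDimensional k F := IntermediateField.finiteDimensional_adjoin fun c _ => Algebra.IsIntegral.isIntegral c
  haveI : Finite F := Module.finite_of_finite k
  refine ⟨F, inferInstance, inferInstance, inferInstance, ?_⟩
  calc T < S.card := by omega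
    _ = Nat.card (S : Set Ω) := by rw [Nat.card_eq_fintype_card]; simp
    _ ≤ Nat.card F := Nat.card_le_card_of_injective
        (fun s => (⟨s.1, IntermediateField.subset_adjoin k _ s.2⟩ : F))
        fun a b h => Subtype.ext (congrArg (fun z : F => (z : Ω)) h)

end Groth.L03.LWU

namespace Groth.L03.LWU

variable {k : Type u} [Field k] [Finite k] {L : Type u} [Field L] [Algebra k L] {n : ℕ} {x : Fin (n + 1) → L} {r : ℕ}

/-- Without new constants the degree is a natural number. -/
theorem IsCone.exists_nat_deg (hx : IsCone k x r) (hM : ∀ a : L, IsAlgebraic k a → a ∈ Set.range (algebraMap k L))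
    {d : ℝ} (hd : HasDeg k x r d) : ∃ e : ℕ, d = e := by
  obtain ⟨T, hT⟩ := exists_nat_gt (d * d + d + 1)
  obtain ⟨k', _, _, _, hk'⟩ := exists_large_ext k T
  obtain ⟨L', _, _, x', hx', -, hdim, -, -⟩ := exists_baseChange hx hM k'
  have hd' : HasDeg k' x' r d := by
    unfold HasDeg at hd ⊢
    simp only [hdim]
    exact hd
  obtain ⟨M, hM'⟩ := exists_model hx' hd' (hT.trans (by exact_mod_cast hk'))
  exact ⟨M.e, le_antisymm (M.le_e hd') hM'⟩

end Groth.L03.LWU
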