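import Mathlib.RingTheory.MvPolynomial.Homogeneous
import Mathlib.RingTheory.MvPolynomial.Basic
import Mathlib.Algebra.Order.Antidiag.FinsuppEquiv
import Mathlib.RingTheory.AlgebraicIndependent.TranscendenceBasis
import Mathlib.FieldTheory.IntermediateField.Adjoin.Basic
import Mathlib.FieldTheory.IsAlgClosed.AlgebraicClosure
import Mathlib.FieldTheory.RatFunc.Basic
import Mathlib.LinearAlgebra.Dimension.StrongRankCondition
import Mathlib.Analysis.SpecialFunctions.Choose

/-!
# Homogeneous coordinates in a field: pieces, degree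
-/

set_option autoImplicit false
set_option linter.style.haveILetI false
universe u v

open MvPolynomial Filter
open scoped Topology

namespace Groth.L03.LWU

theorem finrank_forms (F : Type u) [Field F] (r n : ℕ) :
    Module.Finite F (homogeneousSubmodule (Fin (r + 1)) F n) ∧
      Module.finrank F (homogeneousSubmodule (Fin (r + 1)) F n) = Nat.choose (n + r) r := by
  have hset : ∀ d : Fin (r + 1) →₀ ℕ, d.degree = n ↔ d ∈ Finset.univ.finsuppAntidiag n := fun d => by
    rw [Finset.mem_finsuppAntidiag, Finsupp.degree_eq_sum]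
    simp
  haveI : Fintype {d : Fin (r + 1) →₀ ℕ | d.degree = n} :=
    Fintype.ofFinset (Finset.univ.finsuppAntidiag n) fun d => (hset d).symm
  let b : Module.Basis {d : Fin (r + 1) →₀ ℕ | d.degree = n} F (homogeneousSubmodule (Fin (r + 1)) F n) :=
    (basisRestrictSupport F _).map
      (LinearEquiv.ofEq _ _
        (homogeneousSubmodule_eq_finsupp_supported (σ := Fin (r + 1)) (R := F) n).symm)
  refine ⟨Module.Finite.of_basis b, ?_⟩
  rw [Module.finrank_eq_nat_card_basis b]
  refine (Nat.subtype_card (Finset.univ.finsuppAntidiag n) fun d => (hset d).symm).trans ?_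
  rw [Finset.card_finsuppAntidiag_nat_eq_choose]
  simp only [Finset.card_univ, Fintype.card_fin]
  rw [show r + 1 + n - 1 = n + r by omega, Nat.choose_symm_add]

variable (k : Type u) [Field k] {L : Type v} [Field L] [Algebra k L] {n : ℕ} (x : Fin (n + 1) → L)

/-- The values of the forms of degree `D`. -/
noncomputable def piece (D : ℕ) : Submodule k L :=
  (homogeneousSubmodule (Fin (n + 1)) k D).map (aeval x).toLinearMap

/-- The Hilbert function. -/
noncomputable def coneDim (D : ℕ) : ℕ := Module.finrank k (piece k x D)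

/-- Homogeneous coordinates of an irreducible cone of dimension `r + 1`, inside its field of functions. -/
structure IsCone (r : ℕ) : Prop where
  homog : ∀ P : MvPolynomial (Fin (n + 1)) k, aeval x P = 0 → ∀ D, aeval x (homogeneousComponent D P) = 0
  gen : IntermediateField.adjoin k (Set.range x) = ⊤
  dim : Algebra.trdeg k L = (r + 1 : ℕ)

/-- The degree of a cone of dimension `r + 1`. -/
def HasDeg (r : ℕ) (d : ℝ) : Prop :=
  Tendsto (fun D : ℕ => (coneDim k x D : ℝ) / (D : ℝ) ^ r) atTop (𝓝 (d / r.factorial))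

variable {k} {x}

theorem mem_piece {D : ℕ} {z : L} :
    z ∈ piece k x D ↔ ∃ P : MvPolynomial (Fin (n + 1)) k, P.IsHomogeneous D ∧ aeval x P = z := by
  simp [piece]

theorem aeval_mem_piece {D : ℕ} {P : MvPolynomial (Fin (n + 1)) k} (hP : P.IsHomogeneous D) :
    aeval x P ∈ piece k x D := mem_piece.mpr ⟨P, hP, rfl⟩

theorem mem_piece_one (i : Fin (n + 1)) : x i ∈ piece k x 1 :=
  mem_piece.mpr ⟨X i, isHomogeneous_X k i, aeval_X x i⟩

theorem algebraMap_mem_piece (c : k) : algebraMap k L c ∈ piece k x 0 :=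
  mem_piece.mpr ⟨C c, isHomogeneous_C _ c, aeval_C x c⟩

theorem mul_mem_piece {a b : ℕ} {y z : L} (hy : y ∈ piece k x a) (hz : z ∈ piece k x b) :
    y * z ∈ piece k x (a + b) := by
  obtain ⟨P, hP, rfl⟩ := mem_piece.mp hy
  obtain ⟨Q, hQ, rfl⟩ := mem_piece.mp hz
  exact mem_piece.mpr ⟨P * Q, hP.mul hQ, map_mul _ _ _⟩

theorem pow_mem_piece {a : ℕ} {y : L} (hy : y ∈ piece k x a) (j : ℕ) : y ^ j ∈ piece k x (a * j) := by
  induction j with
  | zero =>
    rw [pow_zero, mul_zero, ← map_one (algebraMap k L)]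
    exact algebraMap_mem_piece 1
  | succ j ih => rw [pow_succ, Nat.mul_succ]; exact mul_mem_piece ih hy

theorem aeval_forms_mem_piece {σ : Type*} {u : σ → L} {e : ℕ} (hu : ∀ i, u i ∈ piece k x e) {D : ℕ}
    {P : MvPolynomial σ k} (hP : P.IsHomogeneous D) : aeval u P ∈ piece k x (e * D) := by
  choose Q hQ hQu using fun i => mem_piece.mp (hu i)
  have : aeval u P = aeval x (aeval Q P) := by
    have h : aeval u = ((aeval x).comp (aeval Q) : MvPolynomial σ k →ₐ[k] L) := by
      refine MvPolynomial.algHom_ext fun i => ?_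
      simp [hQu]
    rw [h, AlgHom.comp_apply]
  rw [this]
  exact aeval_mem_piece (hP.aeval Q hQ)

theorem aeval_forms_mem_piece_one {σ : Type*} {u : σ → L} (hu : ∀ i, u i ∈ piece k x 1) {D : ℕ}
    {P : MvPolynomial σ k} (hP : P.IsHomogeneous D) : aeval u P ∈ piece k x D := by
  simpa using aeval_forms_mem_piece hu hP

instance finite_piece (D : ℕ) : Module.Finite k (piece k x D) := by
  haveI := (finrank_forms k n D).1
  exact Module.Finite.map _ _

theorem le_coneDim_of_linearIndependent {D : ℕ} {ι : Type*} [Fintype ι] {v : ι → L}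
    (hv : LinearIndependent k v) (hmem : ∀ i, v i ∈ piece k x D) : Fintype.card ι ≤ coneDim k x D := by
  have : LinearIndependent k fun i => (⟨v i, hmem i⟩ : piece k x D) :=
    LinearIndependent.of_comp (piece k x D).subtype hv
  exact this.fintype_card_le_finrank

namespace IsCone

variable {r : ℕ}

theorem eq_zero_of_sum (hx : IsCone k x r) (s : Finset ℕ) (z : ℕ → L) (hz : ∀ D ∈ s, z D ∈ piece k x D)
    (h : ∑ D ∈ s, z D = 0) : ∀ D ∈ s, z D = 0 := by
  classical
  intro D hD
  choose P hP hPz using fun E (hE : E ∈ s) => mem_piece.mp (hz E hE)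
  let Q : ℕ → MvPolynomial (Fin (n + 1)) k := fun E => if hE : E ∈ s then P E hE else 0
  have hQ : ∀ E, (Q E).IsHomogeneous E := fun E => by
    by_cases hE : E ∈ s
    · simpa [Q, hE] using hP E hE
    · simpa [Q, hE] using isHomogeneous_zero _ _ E
  have hQz : ∀ E ∈ s, aeval x (Q E) = z E := fun E hE => by simp [Q, hE, hPz E hE]
  have h0 : aeval x (∑ E ∈ s, Q E) = 0 := by rw [map_sum, Finset.sum_congr rfl hQz, h]
  have h1 := hx.homog _ h0 D
  rw [map_sum, Finset.sum_eq_single D, homogeneousComponent_of_mem (hQ D), if_pos rfl, hQz D hD] at h1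
  · exact h1
  · intro E _ hE
    rw [homogeneousComponent_of_mem (hQ E), if_neg hE.symm]
  · exact fun h => absurd hD h

theorem eq_zero_of_mem_mem (hx : IsCone k x r) {a b : ℕ} (hab : a ≠ b) {z : L} (ha : z ∈ piece k x a)
    (hb : z ∈ piece k x b) : z = 0 := by
  have h := hx.eq_zero_of_sum {a, b} (fun E => if E = a then z else -z) ?_ ?_ a (by simp)
  · simpa using h
  · intro E hE
    rcases Finset.mem_insert.mp hE with rfl | hE
    · simpa using ha
    · rw [Finset.mem_singleton] at hE
      subst hE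
      simpa [hab.symm] using (piece k x E).neg_mem hb
  · rw [Finset.sum_insert (by simpa using hab), Finset.sum_singleton]
    simp [hab.symm]

theorem component_aeval (hx : IsCone k x r) {σ : Type*} {u : σ → L} (hu : ∀ i, u i ∈ piece k x 1)
    {P : MvPolynomial σ k} {D : ℕ} (hP : aeval u P ∈ piece k x D) :
    aeval u (homogeneousComponent D P) = aeval u P := by
  classical
  set z := aeval u P
  let s := insert D (Finset.range (P.totalDegree + 1))
  have hsum : ∑ E ∈ s, aeval u (homogeneousComponent E P) = z := by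
    rw [← map_sum]
    congr 1
    conv_rhs => rw [← sum_homogeneousComponent P]
    refine (Finset.sum_subset (Finset.subset_insert _ _) fun E _ hE => ?_).symm
    rw [Finset.mem_range, not_lt] at hE
    exact homogeneousComponent_eq_zero _ _ (by omega)
  have h := hx.eq_zero_of_sum s
    (fun E => aeval u (homogeneousComponent E P) - if E = D then z else 0) ?_ ?_ D (Finset.mem_insert_self _ _)
  · simp only [if_true, sub_eq_zero] at h
    exact h
  · intro E _
    refine Submodule.sub_mem _ (aeval_forms_mem_piece_one hu (homogeneousComponent_isHomogeneous E P)) ?_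
    split_ifs with hE
    · rw [hE]; exact hP
    · exact Submodule.zero_mem _
  · rw [Finset.sum_sub_distrib, hsum, Finset.sum_ite_eq' s D, if_pos (Finset.mem_insert_self _ _), sub_self]

theorem component_eq_zero (hx : IsCone k x r) {σ : Type*} {u : σ → L} (hu : ∀ i, u i ∈ piece k x 1)
    {P : MvPolynomial σ k} (hP : aeval u P = 0) (D : ℕ) : aeval u (homogeneousComponent D P) = 0 := by
  rw [hx.component_aeval hu (by rw [hP]; exact Submodule.zero_mem _), hP]

theorem exists_div (hx : IsCone k x r) (α : L) :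
    ∃ P Q : MvPolynomial (Fin (n + 1)) k, aeval x Q ≠ 0 ∧ α * aeval x Q = aeval x P := by
  have hα : α ∈ IntermediateField.adjoin k (Set.range x) := by rw [hx.gen]; trivial
  obtain ⟨P, Q, h⟩ := (IntermediateField.mem_adjoin_range_iff (F := k) (i := x) α).mp hα
  by_cases hQ : aeval x Q = 0
  · refine ⟨0, 1, by simp, ?_⟩
    rw [h, hQ]
    simp
  · exact ⟨P, Q, hQ, by rw [h, div_mul_cancel₀ _ hQ]⟩

theorem coeff_scale {A : Type*} [CommRing A] [Algebra k A] (v : Fin (n + 1) → A)
    (P : MvPolynomial (Fin (n + 1)) k) (D : ℕ) :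
    (aeval (fun i => Polynomial.C (v i) * Polynomial.X) P : Polynomial A).coeff D =
      aeval v (homogeneousComponent D P) := by
  classical
  induction P using MvPolynomial.induction_on' with
  | monomial e c =>
    have h1 : (aeval (fun i => Polynomial.C (v i) * Polynomial.X) (monomial e c) : Polynomial A) =
        Polynomial.C (aeval v (monomial e c)) * Polynomial.X ^ e.degree := by
      simp only [aeval_monomial, Finsupp.prod, mul_pow, Finset.prod_mul_distrib, map_mul, map_prod, map_pow,
        Finset.prod_pow_eq_pow_sum]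
      rw [show (algebraMap k (Polynomial A)) c = Polynomial.C (algebraMap k A c) from rfl, mul_assoc]
      rfl
    rw [h1, Polynomial.coeff_C_mul_X_pow, homogeneousComponent_of_mem (isHomogeneous_monomial c rfl)]
    split_ifs with h <;> simp
  | add P Q hP hQ => simp [hP, hQ]

/-- An algebraic element is a ratio of forms of the same degree. -/
theorem exists_ratio (hx : IsCone k x r) {α : L} (hα : IsAlgebraic k α) :
    ∃ (D : ℕ) (a b : L), a ∈ piece k x D ∧ b ∈ piece k x D ∧ b ≠ 0 ∧ α * b = a := by
  classical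
  obtain ⟨P, Q, hQ, hPQ⟩ := hx.exists_div α
  let sc : MvPolynomial (Fin (n + 1)) k →ₐ[k] Polynomial L := aeval fun i => Polynomial.C (x i) * Polynomial.X
  have hsc : ∀ R, aeval x R = 0 → sc R = 0 := fun R hR => Polynomial.ext fun D => by
    rw [coeff_scale, hx.homog R hR D, Polynomial.coeff_zero]
  have hev : ∀ R, (sc R).eval 1 = aeval x R := fun R => by
    have : ((Polynomial.aeval (1 : L)).restrictScalars k).comp sc = aeval x := by
      refine MvPolynomial.algHom_ext fun i => ?_
      simp [sc]
    rw [← this]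
    simp
  set G := minpoly k α
  have hGm : G.Monic := minpoly.monic hα.isIntegral
  let R₀ : MvPolynomial (Fin (n + 1)) k :=
    ∑ i ∈ Finset.range (G.natDegree + 1), C (G.coeff i) * P ^ i * Q ^ (G.natDegree - i)
  have hR₀ : aeval x R₀ = 0 := by
    have h : aeval x R₀ = aeval x Q ^ G.natDegree * Polynomial.aeval α G := by
      rw [Polynomial.aeval_eq_sum_range, Finset.mul_sum, map_sum]
      refine Finset.sum_congr rfl fun i hi => ?_
      rw [map_mul, map_mul, map_pow, map_pow, aeval_C, ← hPQ, Algebra.smul_def, mul_pow]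
      obtain ⟨j, hj⟩ := Nat.exists_eq_add_of_le (Nat.lt_succ_iff.mp (Finset.mem_range.mp hi))
      rw [hj, Nat.add_sub_cancel_left, pow_add]
      ring
    rw [h, minpoly.aeval, mul_zero]
  have h0 := hsc R₀ hR₀
  let Ω := AlgebraicClosure L
  let T := RatFunc Ω
  let e : Polynomial L →+* T := (algebraMap (Polynomial Ω) T).comp (Polynomial.mapRingHom (algebraMap L Ω))
  have he : Function.Injective e :=
    (IsFractionRing.injective (Polynomial Ω) T).comp (Polynomial.map_injective _ (algebraMap L Ω).injective)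
  have hQ0 : e (sc Q) ≠ 0 := by
    rw [map_ne_zero_iff _ he]
    intro h
    apply hQ
    rw [← hev, h, Polynomial.eval_zero]
  set β := e (sc P) / e (sc Q)
  let cT : Ω →+* T := (algebraMap (Polynomial Ω) T).comp Polynomial.C
  have hβ : Polynomial.eval₂ (cT.comp (algebraMap k Ω)) β G = 0 := by
    have h1 := congrArg e h0
    simp only [R₀, map_sum, map_mul, map_pow, map_zero] at h1
    rw [Polynomial.eval₂_eq_sum_range]
    refine (mul_eq_zero_iff_left (pow_ne_zero G.natDegree hQ0)).mp ?_
    rw [Finset.mul_sum, ← h1]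
    refine Finset.sum_congr rfl fun i hi => ?_
    obtain ⟨j, hj⟩ := Nat.exists_eq_add_of_le (Nat.lt_succ_iff.mp (Finset.mem_range.mp hi))
    have hc : e (sc (C (G.coeff i))) = cT (algebraMap k Ω (G.coeff i)) := by
      simp only [sc, aeval_C, e, cT, RingHom.comp_apply]
      rw [show (algebraMap k (Polynomial L)) (G.coeff i) = Polynomial.C (algebraMap k L (G.coeff i)) from rfl,
        Polynomial.coe_mapRingHom, Polynomial.map_C, ← IsScalarTower.algebraMap_apply k L Ω]
    rw [hc, hj, Nat.add_sub_cancel_left, pow_add]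
    simp only [β, div_pow, RingHom.comp_apply]
    rw [← mul_div_assoc, ← mul_div_assoc, div_eq_iff (pow_ne_zero i hQ0)]
    ring
  obtain ⟨ρ, -, hρ⟩ : ∃ ρ ∈ (G.map (algebraMap k Ω)).roots, β = cT ρ := by
    have hsplit : G.map (algebraMap k Ω) =
        ((G.map (algebraMap k Ω)).roots.map fun a => Polynomial.X - Polynomial.C a).prod :=
      (IsAlgClosed.splits _).eq_prod_roots_of_monic (hGm.map _)
    rw [← Polynomial.eval₂_map, hsplit, Polynomial.eval₂_multiset_prod, Multiset.map_map,
      Multiset.prod_eq_zero_iff, Multiset.mem_map] at hβ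
    obtain ⟨ρ, hρ, h⟩ := hβ
    simp only [Function.comp_apply, Polynomial.eval₂_sub, Polynomial.eval₂_X, Polynomial.eval₂_C, sub_eq_zero] at h
    exact ⟨ρ, hρ, h⟩
  have hpoly : (sc P).map (algebraMap L Ω) = Polynomial.C ρ * (sc Q).map (algebraMap L Ω) := by
    apply IsFractionRing.injective (Polynomial Ω) T
    rw [map_mul]
    exact (div_eq_iff hQ0).mp hρ
  have hρα : ρ = algebraMap L Ω α := by
    have h := congrArg (Polynomial.eval (1 : Ω)) hpoly
    rw [Polynomial.eval_mul, Polynomial.eval_C, ← map_one (algebraMap L Ω), Polynomial.eval_map_apply,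
      Polynomial.eval_map_apply, hev, hev, ← hPQ, map_mul] at h
    exact (mul_right_cancel₀ ((map_ne_zero _).mpr hQ) h).symm
  obtain ⟨D, hD⟩ : ∃ D, aeval x (homogeneousComponent D Q) ≠ 0 := by
    by_contra! h
    apply hQ
    rw [← sum_homogeneousComponent Q, map_sum]
    exact Finset.sum_eq_zero fun E _ => h E
  refine ⟨D, _, _, aeval_mem_piece (homogeneousComponent_isHomogeneous D P),
    aeval_mem_piece (homogeneousComponent_isHomogeneous D Q), hD, ?_⟩
  have h := congrArg (fun p => Polynomial.coeff p D) hpoly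
  simp only [Polynomial.coeff_map, Polynomial.coeff_C_mul, hρα, coeff_scale, sc] at h
  rw [← map_mul] at h
  exact ((algebraMap L Ω).injective h).symm

/-- Finitely many algebraic elements have a common denominator. -/
theorem exists_common_ratio (hx : IsCone k x r) {ι : Type*} [Finite ι] (α : ι → L) (hα : ∀ i, IsAlgebraic k (α i)) :
    ∃ (D : ℕ) (b : L), b ∈ piece k x D ∧ b ≠ 0 ∧ ∀ i, α i * b ∈ piece k x D := by
  classical
  haveI := Fintype.ofFinite ι
  choose E a b ha hb hb0 hab using fun i => hx.exists_ratio (hα i)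
  suffices H : ∀ s : Finset ι, ∃ (D : ℕ) (c : L), c ∈ piece k x D ∧ c ≠ 0 ∧ ∀ i ∈ s, α i * c ∈ piece k x D by
    obtain ⟨D, c, hc, hc0, h⟩ := H Finset.univ
    exact ⟨D, c, hc, hc0, fun i => h i (Finset.mem_univ i)⟩
  intro s
  induction s using Finset.induction_on with
  | empty => exact ⟨0, 1, by simpa using algebraMap_mem_piece (k := k) (x := x) 1, one_ne_zero, by simp⟩
  | @insert j s hj ih =>
    obtain ⟨D, c, hc, hc0, h⟩ := ih
    refine ⟨D + E j, c * b j, mul_mem_piece hc (hb j), mul_ne_zero hc0 (hb0 j), fun i hi => ?_⟩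
    rcases Finset.mem_insert.mp hi with rfl | hi
    · rw [show α i * (c * b i) = c * (α i * b i) by ring, hab i]
      exact mul_mem_piece hc (ha i)
    · rw [← mul_assoc]
      exact mul_mem_piece (h i hi) (hb j)

end IsCone

theorem tendsto_choose_div (a : ℕ) (r : ℕ) :
    Tendsto (fun D : ℕ => ((D + a).choose r : ℝ) / (D : ℝ) ^ r) atTop (𝓝 (1 / r.factorial)) := by
  have h := (isEquivalent_choose r).comp_tendsto (tendsto_add_atTop_nat a)
  have hz : ∀ᶠ D : ℕ in atTop, ((fun n : ℕ => ((n : ℝ) ^ r / r.factorial)) ∘ fun D => D + a) D ≠ 0 :=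
    eventually_atTop.mpr ⟨1, fun D hD => by
      refine div_ne_zero (pow_ne_zero _ ?_) (Nat.cast_ne_zero.mpr r.factorial_ne_zero)
      exact Nat.cast_ne_zero.mpr (show D + a ≠ 0 by omega)⟩
  have h1 := (Asymptotics.isEquivalent_iff_tendsto_one hz).mp h
  have h2 : Tendsto (fun D : ℕ => (((D : ℝ) + a) / D) ^ r / r.factorial) atTop (𝓝 (1 / r.factorial)) := by
    have h3 := ((tendsto_const_nhds (x := (1 : ℝ))).add (tendsto_const_div_atTop_nhds_zero_nat (a : ℝ))).pow r
    rw [add_zero, one_pow] at h3
    refine (h3.congr' ?_).div_const _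
    filter_upwards [eventually_ge_atTop 1] with D hD
    have : (D : ℝ) ≠ 0 := Nat.cast_ne_zero.mpr (by omega)
    field_simp
  have h4 := h1.mul h2
  rw [one_mul] at h4
  refine h4.congr' ?_
  filter_upwards [eventually_ge_atTop 1] with D hD
  have : (D : ℝ) ≠ 0 := Nat.cast_ne_zero.mpr (by omega)
  have : ((D : ℝ) + a) ≠ 0 := by positivity
  simp only [Pi.div_apply, Function.comp_apply, Nat.cast_add, div_pow]
  field_simp

namespace HasDeg

variable {r : ℕ} {d : ℝ}

theorem le_of_choose_le (hd : HasDeg k x r d) {c : ℝ} {a : ℕ}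
    (h : ∀ᶠ D : ℕ in atTop, c * ((D + r).choose r : ℝ) ≤ coneDim k x (D + a)) : c ≤ d := by
  have h1 : Tendsto (fun D : ℕ => (coneDim k x (D + a) : ℝ) / ((D + a : ℕ) : ℝ) ^ r) atTop (𝓝 (d / r.factorial)) :=
    hd.comp (tendsto_add_atTop_nat a)
  have h2 : Tendsto (fun D : ℕ => ((D + a + 0).choose r : ℝ) / (((D + a) : ℕ) : ℝ) ^ r) atTop (𝓝 (1 / r.factorial)) :=
    (tendsto_choose_div 0 r).comp (tendsto_add_atTop_nat a)
  have h2' : Tendsto (fun D : ℕ => ((D + r).choose r : ℝ) / ((D + a : ℕ) : ℝ) ^ r) atTop (𝓝 (1 / r.factorial)) := by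
    have h3 := (tendsto_choose_div r r).mul ((((tendsto_const_nhds (x := (1 : ℝ))).add
      (tendsto_const_div_atTop_nhds_zero_nat (a : ℝ))).pow r).inv₀ (by norm_num))
    rw [add_zero, one_pow, inv_one, mul_one] at h3
    refine h3.congr' ?_
    filter_upwards [eventually_ge_atTop 1] with D hD
    have : (D : ℝ) ≠ 0 := Nat.cast_ne_zero.mpr (by omega)
    have : ((D : ℝ) + a) ≠ 0 := by positivity
    push_cast
    rw [show (1 : ℝ) + a / D = ((D : ℝ) + a) / D by field_simp, div_pow]
    field_simp
  have h4 := h2'.const_mul c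
  have hle := le_of_tendsto_of_tendsto h4 h1 (h.mono fun D hD => by
    simp only [← mul_div_assoc]
    exact div_le_div_of_nonneg_right hD (by positivity))
  rw [mul_one_div, div_le_div_iff_of_pos_right (Nat.cast_pos.mpr r.factorial_pos)] at hle
  exact hle

theorem le_of_le_choose (hd : HasDeg k x r d) {c : ℝ} {a : ℕ}
    (h : ∀ᶠ D : ℕ in atTop, (coneDim k x D : ℝ) ≤ c * ((D + a).choose r : ℝ)) : d ≤ c := by
  have hle := le_of_tendsto_of_tendsto hd ((tendsto_choose_div a r).const_mul c) (h.mono fun D hD => by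
    simp only [← mul_div_assoc]
    exact div_le_div_of_nonneg_right hD (by positivity))
  rw [mul_one_div, div_le_div_iff_of_pos_right (Nat.cast_pos.mpr r.factorial_pos)] at hle
  exact hle

end HasDeg

end Groth.L03.LWU
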