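import Groth.Agent.L03.LWU.Cone.Model
import Groth.Agent.L03.LWU.Crit
import Groth.Agent.L03.LWU.Hyper

/-!
# Rational points of cones
-/

set_option autoImplicit false
set_option linter.style.haveILetI false
universe u v

open MvPolynomial

namespace Groth.L03.LWU

/-- The points with values in `k'` of the cone of `x`. -/
abbrev ConePts (k : Type u) [Field k] {L : Type v} [Field L] [Algebra k L] {n : ℕ} (x : Fin (n + 1) → L)
    (k' : Type u) [Field k'] [Algebra k k'] : Type u :=
  {v : Fin (n + 1) → k' // ∀ P : MvPolynomial (Fin (n + 1)) k, aeval x P = 0 → aeval v P = 0}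

theorem aeval_mul_of_homogeneous {σ R S : Type*} [CommRing R] [CommRing S] [Algebra R S] {P : MvPolynomial σ R} {D : ℕ}
    (hP : P.IsHomogeneous D) (c : S) (v : σ → S) : aeval (fun i => c * v i) P = c ^ D * aeval v P := by
  classical
  conv_lhs => rw [P.as_sum]
  conv_rhs => rw [P.as_sum]
  rw [map_sum, map_sum, Finset.mul_sum]
  refine Finset.sum_congr rfl fun e he => ?_
  have hd : ∑ i ∈ e.support, e i = D := by
    have h := hP (mem_support_iff.mp he)
    rw [Finsupp.weight_apply, Finsupp.sum] at h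
    simpa using h
  rw [aeval_monomial, aeval_monomial, Finsupp.prod, Finsupp.prod, ← hd, ← Finset.prod_pow_eq_pow_sum,
    ← mul_assoc, mul_comm (∏ i ∈ e.support, c ^ e i), mul_assoc, ← Finset.prod_mul_distrib]
  simp only [mul_pow]

theorem finSuccEquiv_map {R S : Type*} [CommRing R] [CommRing S] (φ : R →+* S) (m : ℕ)
    (P : MvPolynomial (Fin (m + 1)) R) :
    finSuccEquiv S m (map φ P) = (finSuccEquiv R m P).map (map φ) := by
  have h : ((finSuccEquiv S m).toRingEquiv.toRingHom).comp (map φ) =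
      (Polynomial.mapRingHom (map φ)).comp (finSuccEquiv R m).toRingEquiv.toRingHom := by
    refine MvPolynomial.ringHom_ext (fun c => ?_) fun i => ?_
    · show finSuccEquiv S m (map φ (C c)) = (finSuccEquiv R m (C c)).map (map φ)
      simp [finSuccEquiv_apply]
    · show finSuccEquiv S m (map φ (X i)) = (finSuccEquiv R m (X i)).map (map φ)
      refine Fin.cases ?_ (fun j => ?_) i
      · simp [finSuccEquiv_X_zero]
      · simp [finSuccEquiv_X_succ]
  exact RingHom.congr_fun h P

theorem finSuccEquiv_eval {R : Type*} [CommRing R] {m : ℕ} (w₀ : R) (w : Fin m → R)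
    (P : MvPolynomial (Fin (m + 1)) R) :
    eval (Fin.cons w₀ w : Fin (m + 1) → R) P = ((finSuccEquiv R m P).map (eval w)).eval w₀ :=
  eval_eq_eval_mv_eval' w w₀ P

variable {k : Type u} [Field k] {L : Type u} [Field L] [Algebra k L] {n : ℕ} {x : Fin (n + 1) → L} {r : ℕ}

/-- Linear forms with values the given elements of the first piece. -/
theorem exists_forms {σ : Type*} {u : σ → L} (hu : ∀ i, u i ∈ piece k x 1) :
    ∃ l : σ → MvPolynomial (Fin (n + 1)) k, (∀ i, (l i).IsHomogeneous 1) ∧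
      (∀ i, aeval x (l i) = u i) ∧ ∀ P : MvPolynomial σ k, aeval x (aeval l P) = aeval u P := by
  choose l hl hlu using fun i => mem_piece.mp (hu i)
  refine ⟨l, hl, hlu, fun P => ?_⟩
  rw [← AlgHom.comp_apply, comp_aeval]
  congr 2
  exact funext hlu

theorem coord_equation (hx : IsCone k x r) {d : ℝ} (hd : HasDeg k x r d) {y : Fin (r + 1) → L}
    (hind : AlgebraicIndependent k y) (hy : ∀ i, y i ∈ piece k x 1)
    (hint : ∀ i, IsIntegral (Algebra.adjoin k (Set.range y)) (x i)) (i : Fin (n + 1)) :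
    ∃ g : Polynomial (MvPolynomial (Fin (r + 1)) k), g.Monic ∧ (g.natDegree : ℝ) ≤ d ∧
      aeval (Fin.cons (x i) y : Fin (r + 2) → L) ((finSuccEquiv k (r + 1)).symm g) = 0 := by
  classical
  obtain ⟨P, δ, hP, hPh, hδ, hker⟩ := hx.exists_relation hd hind hy (mem_piece_one i)
  let fs := finSuccEquiv k (r + 1)
  obtain ⟨p, hp, hp0⟩ := hint i
  let π : MvPolynomial (Fin (r + 1)) k →+* Algebra.adjoin k (Set.range y) := (hind.aevalEquiv : _ →+* _)
  have hl : p ∈ Polynomial.lifts π :=
    (Polynomial.lifts_iff_coeff_lifts p).mpr fun j => hind.aevalEquiv.surjective (p.coeff j)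
  obtain ⟨q, hq, -, hqm⟩ := Polynomial.lifts_and_degree_eq_and_monic hl hp
  have hq0 : aeval (Fin.cons (x i) y : Fin (r + 2) → L) (fs.symm q) = 0 := by
    rw [← hq, Polynomial.eval₂_map] at hp0
    rw [← hp0]
    have h : (aeval (Fin.cons (x i) y : Fin (r + 2) → L) : MvPolynomial (Fin (r + 2)) k →ₐ[k] L).toRingHom.comp
        fs.symm.toRingEquiv.toRingHom =
          Polynomial.eval₂RingHom ((algebraMap (Algebra.adjoin k (Set.range y)) L).comp π) (x i) := by
      refine Polynomial.ringHom_ext (fun a => ?_) ?_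
      · show aeval _ (fs.symm (Polynomial.C a)) = Polynomial.eval₂ _ _ (Polynomial.C a)
        rw [Polynomial.eval₂_C]
        have h1 : fs.symm (Polynomial.C a) = rename Fin.succ a := by
          apply fs.injective
          rw [AlgEquiv.apply_symm_apply]
          have : (fs : MvPolynomial (Fin (r + 2)) k →ₐ[k] _).comp (rename Fin.succ) =
              (IsScalarTower.toAlgHom k (MvPolynomial (Fin (r + 1)) k) (Polynomial (MvPolynomial (Fin (r + 1)) k))) := by
            refine MvPolynomial.algHom_ext fun j => ?_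
            simp [fs, finSuccEquiv_X_succ]
          exact (AlgHom.congr_fun this a).symm
        rw [h1, aeval_rename]
        rfl
      · show aeval _ (fs.symm Polynomial.X) = Polynomial.eval₂ _ _ Polynomial.X
        rw [Polynomial.eval₂_X, show fs.symm Polynomial.X = X 0 from
          fs.injective (by simp [fs, finSuccEquiv_X_zero])]
        simp
    exact RingHom.congr_fun h q
  obtain ⟨c, hc⟩ := (hker _).mp hq0
  have hmul : q = fs P * fs c := by rw [← map_mul, ← hc, AlgEquiv.apply_symm_apply]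
  have hlead : IsUnit (fs P).leadingCoeff := by
    refine isUnit_of_mul_isUnit_left (y := (fs c).leadingCoeff) ?_
    rw [← Polynomial.leadingCoeff_mul, ← hmul, hqm.leadingCoeff]
    exact isUnit_one
  refine ⟨Polynomial.C (↑hlead.unit⁻¹ : MvPolynomial (Fin (r + 1)) k) * fs P, ?_, ?_, ?_⟩
  · rw [Polynomial.Monic, Polynomial.leadingCoeff_mul, Polynomial.leadingCoeff_C, IsUnit.val_inv_mul]
  · refine le_trans ?_ hδ
    have h := Polynomial.natDegree_C_mul_le (↑hlead.unit⁻¹ : MvPolynomial (Fin (r + 1)) k) (fs P)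
    have h2 : (fs P).natDegree ≤ δ := by
      rw [natDegree_finSuccEquiv, ← hPh.totalDegree hP.ne_zero]
      exact degreeOf_le_totalDegree _ _
    exact_mod_cast h.trans h2
  · rw [map_mul, AlgEquiv.symm_apply_apply, map_mul, (hker P).mpr dvd_rfl, mul_zero]

/-- Few points have given values of the normalising forms. -/
theorem card_conePts_le [Finite k] (hx : IsCone k x r) {d : ℝ} (hd : HasDeg k x r d) {y : Fin (r + 1) → L}
    (hind : AlgebraicIndependent k y) (hy : ∀ i, y i ∈ piece k x 1)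
    (hint : ∀ i, IsIntegral (Algebra.adjoin k (Set.range y)) (x i)) {D0 : ℕ} (hD0 : d ≤ D0)
    {l : Fin (r + 1) → MvPolynomial (Fin (n + 1)) k} (hl : ∀ j, aeval x (l j) = y j)
    (Z : (Fin (r + 1) → k) → Prop) :
    Nat.card {v : ConePts k x k // Z fun j => eval v.1 (l j)} ≤
      Nat.card {w : Fin (r + 1) → k // Z w} * D0 ^ (n + 1) := by
  classical
  haveI := Fintype.ofFinite k
  choose g hgm hgd hg0 using coord_equation hx hd hind hy hint
  let π : {v : ConePts k x k // Z fun j => eval v.1 (l j)} → {w : Fin (r + 1) → k // Z w} :=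
    fun v => ⟨fun j => eval v.1.1 (l j), v.2⟩
  have hroot : ∀ (v : {v : ConePts k x k // Z fun j => eval v.1 (l j)}) (i : Fin (n + 1)),
      v.1.1 i ∈ ((g i).map (eval (π v).1)).roots.toFinset := by
    intro v i
    rw [Multiset.mem_toFinset, Polynomial.mem_roots']
    refine ⟨((hgm i).map _).ne_zero, ?_⟩
    let R : MvPolynomial (Fin (n + 1)) k :=
      aeval (Fin.cons (X i) l : Fin (r + 2) → MvPolynomial (Fin (n + 1)) k) ((finSuccEquiv k (r + 1)).symm (g i))
    have hR : aeval x R = 0 := by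
      rw [← AlgHom.comp_apply, comp_aeval]
      convert hg0 i using 3
      exact funext fun j => Fin.cases (by simp) (fun a => by simp [hl]) j
    have h := v.1.2 R hR
    rw [← AlgHom.comp_apply, comp_aeval] at h
    have h2 : (fun j => aeval v.1.1 ((Fin.cons (X i) l : Fin (r + 2) → MvPolynomial (Fin (n + 1)) k) j)) =
        (Fin.cons (v.1.1 i) (π v).1 : Fin (r + 2) → k) :=
      funext fun j => Fin.cases (by simp) (fun a => by simp [π, aeval_eq_eval]) j
    rw [h2, aeval_eq_eval] at h
    change eval _ _ = 0 at h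
    rw [finSuccEquiv_eval, AlgEquiv.apply_symm_apply] at h
    exact h
  let S : {w : Fin (r + 1) → k // Z w} → Finset (Fin (n + 1) → k) := fun w =>
    Fintype.piFinset fun i => ((g i).map (eval w.1)).roots.toFinset
  let Φ : {v : ConePts k x k // Z fun j => eval v.1 (l j)} → Σ w : {w : Fin (r + 1) → k // Z w}, (S w : Finset _) :=
    fun v => ⟨π v, ⟨v.1.1, Fintype.mem_piFinset.mpr fun i => hroot v i⟩⟩
  have hΦ : Function.Injective Φ := fun a b h => by
    have h1 := congrArg (fun s => (s.2 : Fin (n + 1) → k)) h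
    exact Subtype.ext (Subtype.ext h1)
  refine (Nat.card_le_card_of_injective Φ hΦ).trans ?_
  rw [Nat.card_sigma, Nat.card_eq_fintype_card, ← Finset.card_univ, ← smul_eq_mul, ← Finset.sum_const]
  refine Finset.sum_le_sum fun w _ => ?_
  rw [Nat.card_eq_fintype_card, Fintype.card_coe, Fintype.card_piFinset]
  refine (Finset.prod_le_prod' (g := fun _ => D0) fun i _ => ?_).trans_eq (by simp)
  refine (Multiset.toFinset_card_le _).trans ((Polynomial.card_roots' _).trans ?_)
  refine Polynomial.natDegree_map_le.trans ?_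
  exact_mod_cast (hgd i).trans hD0

theorem card_conePts_trivial [Finite k] : Nat.card (ConePts k x k) ≤ Nat.card k ^ (n + 1) := by
  refine (Nat.card_le_card_of_injective _ Subtype.val_injective).trans ?_
  rw [Nat.card_fun, Nat.card_fin]

/-- The upper bound. -/
theorem cone_upper (n r D0 : ℕ) : ∃ A : ℕ, ∀ {k : Type u} [Field k] [Finite k] {L : Type u} [Field L] [Algebra k L]
    {x : Fin (n + 1) → L} {d : ℝ}, IsCone k x r → HasDeg k x r d → d ≤ D0 →
    Nat.card (ConePts k x k) ≤ A * Nat.card k ^ (r + 1) := by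
  refine ⟨D0 ^ (n + 1) + (D0 + 1) ^ (n + 1), fun {k} _ _ {L} _ _ {x d} hx hd hD0 => ?_⟩
  by_cases hq : D0 + 1 < Nat.card k
  · have hq' : d + 1 < (Nat.card k : ℝ) := by
      have : ((D0 + 1 : ℕ) : ℝ) < (Nat.card k : ℝ) := by exact_mod_cast hq
      push_cast at this
      linarith
    obtain ⟨y, hind, hy⟩ := hx.exists_normFam hd hq'
    obtain ⟨l, -, hl, -⟩ := exists_forms hy.mem
    have h := card_conePts_le hx hd hind hy.mem hy.integral hD0 hl (fun _ => True)
    rw [Nat.card_congr (Equiv.subtypeUnivEquiv fun _ => trivial),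
      Nat.card_congr (Equiv.subtypeUnivEquiv fun _ => trivial), Nat.card_fun, Nat.card_fin] at h
    calc _ ≤ Nat.card k ^ (r + 1) * D0 ^ (n + 1) := h
      _ ≤ _ := by rw [mul_comm]; gcongr; omega
  · push Not at hq
    calc _ ≤ Nat.card k ^ (n + 1) := card_conePts_trivial
      _ ≤ (D0 + 1) ^ (n + 1) * 1 := by rw [mul_one]; gcongr
      _ ≤ _ := Nat.mul_le_mul (Nat.le_add_left _ _) (Nat.one_le_pow _ _ Nat.card_pos)

namespace Model

variable (M : Model k x r)

theorem e_pos : 0 < M.e := by
  rw [← M.G_hom.totalDegree M.G_irr.ne_zero]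
  exact totalDegree_pos_of_irreducible M.G_irr

theorem mem (i : Fin (r + 2)) : (Fin.cons M.θ M.y : Fin (r + 2) → L) i ∈ piece k x 1 :=
  Fin.cases M.θ_mem M.y_mem i

/-- With no new constants the hypersurface is absolutely irreducible. -/
theorem absIrr (hM : ∀ a : L, IsAlgebraic k a → a ∈ Set.range (algebraMap k L)) : AbsIrr M.G := by
  let fs := finSuccEquiv k (r + 1)
  have h := irreducible_algClosure_of_sepClosed (F := k) (M := L) M.G_monic (M.G_deg.symm ▸ M.e_pos) M.G_sep M.y M.θ
    (fun Q => ?_) (fun a ha => hM a ha.isIntegral.isAlgebraic)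
  · rw [AbsIrr, ← MulEquiv.irreducible_iff (finSuccEquiv (AlgebraicClosure k) (r + 1)).toMulEquiv]
    show Irreducible (finSuccEquiv (AlgebraicClosure k) (r + 1) (map _ M.G))
    rw [finSuccEquiv_map]
    exact h
  · have h2 : Polynomial.eval₂ (aeval M.y).toRingHom M.θ Q = aeval (Fin.cons M.θ M.y : Fin (r + 2) → L) (fs.symm Q) := by
      obtain ⟨P, rfl⟩ := fs.surjective Q
      rw [AlgEquiv.symm_apply_apply]
      have : (Polynomial.eval₂RingHom (aeval M.y).toRingHom M.θ).comp fs.toRingEquiv.toRingHom =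
          (aeval (Fin.cons M.θ M.y : Fin (r + 2) → L) : MvPolynomial (Fin (r + 2)) k →ₐ[k] L).toRingHom := by
        refine MvPolynomial.ringHom_ext (fun c => ?_) fun i => ?_
        · show Polynomial.eval₂ _ _ (fs (C c)) = aeval _ (C c)
          simp [fs, finSuccEquiv_apply]
        · show Polynomial.eval₂ _ _ (fs (X i)) = aeval _ (X i)
          refine Fin.cases ?_ (fun j => ?_) i
          · simp [fs, finSuccEquiv_X_zero]
          · simp [fs, finSuccEquiv_X_succ]
      exact RingHom.congr_fun this P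
    rw [h2, M.ker]
    constructor
    · rintro ⟨c, hc⟩
      exact ⟨fs c, by rw [← map_mul, ← hc, AlgEquiv.apply_symm_apply]⟩
    · rintro ⟨c, hc⟩
      refine ⟨fs.symm c, fs.injective ?_⟩
      rw [map_mul, AlgEquiv.apply_symm_apply, AlgEquiv.apply_symm_apply, hc]

/-- Off the discriminant the cone and the hypersurface have the same points. -/
theorem nonempty_equiv_off (hx : IsCone k x r) {l : Fin (r + 2) → MvPolynomial (Fin (n + 1)) k}
    (hl : ∀ j, aeval x (l j) = (Fin.cons M.θ M.y : Fin (r + 2) → L) j)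
    (hl1 : ∀ j, (l j).IsHomogeneous 1) :
    Nonempty ({v : ConePts k x k // eval (fun j => eval v.1 (l j.succ)) M.Δ ≠ 0} ≃
      {w : Fin (r + 2) → k // eval w M.G = 0 ∧ eval (fun j => w j.succ) M.Δ ≠ 0}) := by
  classical
  set u : Fin (r + 2) → L := Fin.cons M.θ M.y with hu
  choose Q hQh hQ using fun i => M.mul_mem 1 (x i) (mem_piece_one i)
  have hlP : ∀ P : MvPolynomial (Fin (r + 2)) k, aeval x (aeval l P) = aeval u P := fun P => by
    rw [← AlgHom.comp_apply, comp_aeval]
    congr 2
    exact funext hl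
  have hlev : ∀ (v : Fin (n + 1) → k) (P : MvPolynomial (Fin (r + 2)) k),
      eval v (aeval l P) = eval (fun j => eval v (l j)) P := fun v P => by
    rw [← aeval_eq_eval, ← aeval_eq_eval, ← AlgHom.comp_apply, comp_aeval]
    try rfl
  let F : {v : ConePts k x k // eval (fun j => eval v.1 (l j.succ)) M.Δ ≠ 0} →
      {w : Fin (r + 2) → k // eval w M.G = 0 ∧ eval (fun j => w j.succ) M.Δ ≠ 0} := fun v =>
    ⟨fun j => eval v.1.1 (l j), by
      rw [← hlev, ← aeval_eq_eval]
      exact v.1.2 _ (by rw [hlP, (M.ker M.G).mpr dvd_rfl]), v.2⟩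
  have hrec : ∀ (v : ConePts k x k) (i : Fin (n + 1)),
      eval (fun j => eval v.1 (l j.succ)) M.Δ * v.1 i = eval (fun j => eval v.1 (l j)) (Q i) := by
    intro v i
    let R : MvPolynomial (Fin (n + 1)) k := aeval l (Q i) - aeval l (rename Fin.succ M.Δ) * X i
    have hR : aeval x R = 0 := by
      simp only [R, map_sub, map_mul, hlP, aeval_X]
      rw [hQ, aeval_rename, show u ∘ Fin.succ = M.y from funext fun j => by simp [u], sub_self]
    have h := v.2 R hR
    simp only [R, map_sub, map_mul, aeval_eq_eval, sub_eq_zero] at h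
    change eval v.1 (aeval l (Q i)) = eval v.1 (aeval l (rename Fin.succ M.Δ)) * eval v.1 (X i) at h
    rw [hlev, hlev, eval_rename, eval_X] at h
    exact h.symm
  refine ⟨Equiv.ofBijective F ⟨fun a b h => Subtype.ext (Subtype.ext (funext fun i => ?_)), fun w => ?_⟩⟩
  · have hw : ∀ j, eval a.1.1 (l j) = eval b.1.1 (l j) := fun j => congrFun (congrArg Subtype.val h) j
    have h1 := hrec a.1 i
    rw [show (fun j : Fin (r + 1) => eval a.1.1 (l j.succ)) = fun j => eval b.1.1 (l j.succ) from funext fun j => hw _,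
      show (fun j => eval a.1.1 (l j)) = fun j => eval b.1.1 (l j) from funext hw, ← hrec b.1 i] at h1
    exact mul_left_cancel₀ b.2 h1
  obtain ⟨w, hwG, hwΔ⟩ := w
  set δ := eval (fun j => w j.succ) M.Δ with hδ
  let v : Fin (n + 1) → k := fun i => δ⁻¹ * eval w (Q i)
  have hscale : ∀ (P : MvPolynomial (Fin (n + 1)) k) (D : ℕ), P.IsHomogeneous D →
      eval v P = δ⁻¹ ^ D * eval w (aeval Q P) := fun P D hP => by
    rw [← aeval_eq_eval, ← aeval_eq_eval, aeval_mul_of_homogeneous hP]
    congr 1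
    rw [← AlgHom.comp_apply, comp_aeval]
    rfl
  have hQx : ∀ (P : MvPolynomial (Fin (n + 1)) k) (D : ℕ), P.IsHomogeneous D →
      aeval u (aeval Q P) = aeval M.y M.Δ ^ D * aeval x P := fun P D hP => by
    rw [← AlgHom.comp_apply, comp_aeval, ← aeval_mul_of_homogeneous hP]
    congr 2
    exact funext hQ
  have hv : ∀ P : MvPolynomial (Fin (n + 1)) k, aeval x P = 0 → aeval v P = 0 := by
    intro P hP
    rw [← sum_homogeneousComponent P, map_sum]
    refine Finset.sum_eq_zero fun D _ => ?_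
    have hD := homogeneousComponent_isHomogeneous D P
    obtain ⟨c, hc⟩ := (M.ker _).mp (by rw [hQx _ D hD, hx.homog P hP D, mul_zero] :
      aeval u (aeval Q (homogeneousComponent D P)) = 0)
    rw [aeval_eq_eval]
    change eval v (homogeneousComponent D P) = 0
    rw [hscale _ D hD, hc, map_mul, hwG, zero_mul, mul_zero]
  have hlv : ∀ j, eval v (l j) = w j := fun j => by
    obtain ⟨c, hc⟩ := (M.ker _).mp (by
      rw [map_sub, map_mul, hQx _ 1 (hl1 j), hl j, pow_one, aeval_X, aeval_rename,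
        show u ∘ Fin.succ = M.y from funext fun a => by simp [u], sub_self] :
      aeval u (aeval Q (l j) - rename Fin.succ M.Δ * X j) = 0)
    have h := congrArg (eval w) hc
    rw [map_sub, map_mul, map_mul, hwG, zero_mul, eval_rename, eval_X, sub_eq_zero] at h
    rw [hscale _ 1 (hl1 j), h, pow_one, ← mul_assoc]
    change δ⁻¹ * δ * w j = w j
    rw [inv_mul_cancel₀ hwΔ, one_mul]
  refine ⟨⟨⟨v, hv⟩, ?_⟩, Subtype.ext (funext hlv)⟩
  rw [show (fun j : Fin (r + 1) => eval v (l j.succ)) = fun j => w j.succ from funext fun j => hlv _]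
  exact hwΔ

theorem card_zeros_y_le [Finite k] :
    Nat.card {w : Fin (r + 1) → k // eval w M.Δ = 0} ≤ 2 * M.e * M.e * Nat.card k ^ r := by
  have h := card_zeros_le (p := M.Δ) M.Δ_ne
  rw [Nat.card_fin, pow_succ, ← mul_assoc] at h
  refine (Nat.le_of_mul_le_mul_right h Nat.card_pos).trans (Nat.mul_le_mul_right _ ?_)
  exact (M.Δ_hom.totalDegree M.Δ_ne).trans_le M.c_le

theorem card_hyper_zeros_on_le [Finite k] {δ : MvPolynomial (Fin (r + 1)) k} :
    Nat.card {w : Fin (r + 2) → k // eval w M.G = 0 ∧ eval (fun j => w j.succ) δ = 0} ≤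
      Nat.card {w : Fin (r + 1) → k // eval w δ = 0} * M.e := by
  classical
  haveI := Fintype.ofFinite k
  let S : {w : Fin (r + 1) → k // eval w δ = 0} → Finset k := fun w =>
    ((finSuccEquiv k (r + 1) M.G).map (eval w.1)).roots.toFinset
  have hmem : ∀ w : {w : Fin (r + 2) → k // eval w M.G = 0 ∧ eval (fun j => w j.succ) δ = 0},
      w.1 0 ∈ S ⟨fun j => w.1 j.succ, w.2.2⟩ := fun w => by
    rw [Multiset.mem_toFinset, Polynomial.mem_roots']
    refine ⟨(M.G_monic.map _).ne_zero, ?_⟩
    show Polynomial.eval _ _ = 0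
    rw [← finSuccEquiv_eval, show (Fin.cons (w.1 0) fun j => w.1 j.succ : Fin (r + 2) → k) = w.1 from Fin.cons_self_tail _]
    exact w.2.1
  let Φ : {w : Fin (r + 2) → k // eval w M.G = 0 ∧ eval (fun j => w j.succ) δ = 0} →
      Σ w : {w : Fin (r + 1) → k // eval w δ = 0}, (S w : Finset k) := fun w =>
    ⟨⟨fun j => w.1 j.succ, w.2.2⟩, ⟨w.1 0, hmem w⟩⟩
  have hΦ : Function.Injective Φ := fun a b h => Subtype.ext (funext fun j => by
    refine Fin.cases ?_ (fun i => ?_) j
    · exact congrArg (fun s => (s.2 : k)) h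
    · exact congrFun (congrArg (fun s => (s.1 : Fin (r + 1) → k)) h) i)
  refine (Nat.card_le_card_of_injective Φ hΦ).trans ?_
  rw [Nat.card_sigma, Nat.card_eq_fintype_card, ← Finset.card_univ, ← smul_eq_mul, ← Finset.sum_const]
  refine Finset.sum_le_sum fun w _ => ?_
  rw [Nat.card_eq_fintype_card, Fintype.card_coe]
  exact (Multiset.toFinset_card_le _).trans ((Polynomial.card_roots' _).trans
    (Polynomial.natDegree_map_le.trans M.G_deg.le))

end Model

theorem card_split' {α : Type*} [Finite α] (p : α → Prop) :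
    Nat.card α = Nat.card {a // p a} + Nat.card {a // ¬ p a} := by
  classical
  rw [← Nat.card_sum, Nat.card_congr (Equiv.sumCompl p)]

/-- The estimate for a cone without new constants. -/
theorem cone_main (n r D0 : ℕ) : ∃ A : ℝ, 0 ≤ A ∧ ∀ {k : Type u} [Field k] [Finite k] {L : Type u} [Field L]
    [Algebra k L] {x : Fin (n + 1) → L} {d : ℝ}, IsCone k x r → HasDeg k x r d → d ≤ D0 → 1 ≤ d →
    (∀ a : L, IsAlgebraic k a → a ∈ Set.range (algebraMap k L)) →
    ∃ e : ℕ, 1 ≤ e ∧ (e : ℝ) ≤ d ∧ |(Nat.card (ConePts k x k) : ℝ) - (Nat.card k : ℝ) ^ (r + 1)| ≤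
      (Nat.card k : ℝ) ^ r * (((e : ℝ) - 1) * ((e : ℝ) - 2) * Real.sqrt (Nat.card k) + A) := by
  classical
  choose AH hAH0 hAH using fun e => hyper_estimate.{u} e r
  set T : ℕ := D0 * D0 + D0 + 1 with hT
  refine ⟨(∑ e ∈ Finset.range (D0 + 1), AH e) + 2 * (2 * D0 * D0 * (D0 + 1) ^ (n + 1) : ℕ) +
      ((T : ℝ) ^ (n + 1) + (T : ℝ) ^ (r + 1)), by
    have := Finset.sum_nonneg (s := Finset.range (D0 + 1)) fun e _ => hAH0 e
    positivity, fun {k} _ _ {L} _ _ {x d} hx hd hD0 hd1 hM => ?_⟩
  set q : ℝ := (Nat.card k : ℝ) with hqdef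
  have hq1 : 1 ≤ q := Nat.one_le_cast.mpr Nat.card_pos
  have hsum0 := Finset.sum_nonneg (s := Finset.range (D0 + 1)) fun e _ => hAH0 e
  have hqr : 1 ≤ q ^ r := one_le_pow₀ hq1
  by_cases hq : T < Nat.card k
  · have hqd : d * d + d + 1 < (Nat.card k : ℝ) := by
      have h : ((T : ℕ) : ℝ) < (Nat.card k : ℝ) := by exact_mod_cast hq
      rw [hT] at h
      push_cast at h
      nlinarith
    obtain ⟨M, hMe⟩ := exists_model hx hd hqd
    have hMD : M.e ≤ D0 := by exact_mod_cast hMe.trans hD0
    obtain ⟨l, hl1, hl, -⟩ := exists_forms M.mem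
    obtain ⟨eqv⟩ := M.nonempty_equiv_off hx hl hl1
    have hG := hAH M.e M.G (M.G_hom.totalDegree M.G_irr.ne_zero) (M.absIrr hM)
    let pZ : ConePts k x k → Prop := fun v => eval (fun j => eval v.1 (l j.succ)) M.Δ = 0
    have h1 : Nat.card {v // pZ v} ≤ 2 * D0 * D0 * (D0 + 1) ^ (n + 1) * Nat.card k ^ r := by
      refine (card_conePts_le hx hd M.indep M.y_mem M.integral hD0 (l := fun j => l j.succ)
        (fun j => (hl j.succ).trans (Fin.cons_succ _ _ _)) (fun w => eval w M.Δ = 0)).trans ?_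
      refine (Nat.mul_le_mul_right _ M.card_zeros_y_le).trans ?_
      calc 2 * M.e * M.e * Nat.card k ^ r * D0 ^ (n + 1) ≤ 2 * D0 * D0 * Nat.card k ^ r * (D0 + 1) ^ (n + 1) := by
            gcongr; omega
        _ = _ := by ring
    have h2 : Nat.card {w : {w : Fin (r + 2) → k // eval w M.G = 0} // eval (fun j => w.1 j.succ) M.Δ = 0} ≤
        2 * D0 * D0 * (D0 + 1) ^ (n + 1) * Nat.card k ^ r := by
      rw [Nat.card_congr (Equiv.subtypeSubtypeEquivSubtypeInter (fun w : Fin (r + 2) → k => eval w M.G = 0)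
        (fun w => eval (fun j => w j.succ) M.Δ = 0))]
      refine M.card_hyper_zeros_on_le.trans ((Nat.mul_le_mul_right _ M.card_zeros_y_le).trans ?_)
      calc 2 * M.e * M.e * Nat.card k ^ r * M.e ≤ 2 * D0 * D0 * Nat.card k ^ r * (D0 + 1) ^ (n + 1) := by
            gcongr
            exact (by omega : M.e ≤ D0 + 1).trans (Nat.le_self_pow (by omega) _)
        _ = _ := by ring
    have hoff : Nat.card {v // ¬ pZ v} =
        Nat.card {w : {w : Fin (r + 2) → k // eval w M.G = 0} // ¬ eval (fun j => w.1 j.succ) M.Δ = 0} := by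
      rw [Nat.card_congr (Equiv.subtypeSubtypeEquivSubtypeInter (fun w : Fin (r + 2) → k => eval w M.G = 0)
        (fun w => ¬ eval (fun j => w j.succ) M.Δ = 0))]
      exact Nat.card_congr eqv
    have hc := card_split' pZ
    have hg := card_split' (fun w : {w : Fin (r + 2) → k // eval w M.G = 0} => eval (fun j => w.1 j.succ) M.Δ = 0)
    set N := Nat.card (ConePts k x k)
    set NG := Nat.card {w : Fin (r + 2) → k // eval w M.G = 0}
    set B : ℕ := 2 * D0 * D0 * (D0 + 1) ^ (n + 1)
    have hN : |(N : ℝ) - NG| ≤ 2 * (B : ℕ) * q ^ r := by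
      have ha : (N : ℝ) ≤ NG + (B : ℕ) * q ^ r := by
        rw [hqdef]; exact_mod_cast (by omega : N ≤ NG + B * Nat.card k ^ r)
      have hb : (NG : ℝ) ≤ N + (B : ℕ) * q ^ r := by
        rw [hqdef]; exact_mod_cast (by omega : NG ≤ N + B * Nat.card k ^ r)
      have : 0 ≤ ((B : ℕ) : ℝ) * q ^ r := by positivity
      rw [abs_le]
      constructor <;> linarith
    refine ⟨M.e, M.e_pos, hMe, ?_⟩
    have hA : AH M.e ≤ ∑ e ∈ Finset.range (D0 + 1), AH e :=
      Finset.single_le_sum (fun e _ => hAH0 e) (Finset.mem_range.mpr (by omega))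
    have htri := abs_sub_le (N : ℝ) NG (q ^ (r + 1))
    have hT0 : 0 ≤ (T : ℝ) ^ (n + 1) + (T : ℝ) ^ (r + 1) := by positivity
    nlinarith
  · push Not at hq
    refine ⟨1, le_rfl, by exact_mod_cast hd1, ?_⟩
    have hqT : q ≤ T := by rw [hqdef]; exact_mod_cast hq
    have hN : (Nat.card (ConePts k x k) : ℝ) ≤ (T : ℝ) ^ (n + 1) := by
      refine le_trans ?_ (pow_le_pow_left₀ (by positivity) hqT (n + 1))
      rw [hqdef]
      exact_mod_cast card_conePts_trivial
    have hp : q ^ (r + 1) ≤ (T : ℝ) ^ (r + 1) := pow_le_pow_left₀ (by positivity) hqT _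
    have hB : 0 ≤ 2 * ((2 * D0 * D0 * (D0 + 1) ^ (n + 1) : ℕ) : ℝ) := by positivity
    have hN0 : (0 : ℝ) ≤ Nat.card (ConePts k x k) := Nat.cast_nonneg _
    have hq0 : 0 ≤ q ^ (r + 1) := by positivity
    have hbase : |(Nat.card (ConePts k x k) : ℝ) - q ^ (r + 1)| ≤ (T : ℝ) ^ (n + 1) + (T : ℝ) ^ (r + 1) := by
      rw [abs_le]
      constructor <;> linarith
    refine hbase.trans (le_trans ?_ (le_mul_of_one_le_left (by simp only [Nat.cast_one]; nlinarith) hqr))
    simp only [Nat.cast_one]
    linarith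

/-- Few points lie on the zero locus of a form which is nonzero on the cone. -/
theorem cone_low (n r D0 c : ℕ) : ∃ A : ℝ, 0 ≤ A ∧ ∀ {k : Type u} [Field k] [Finite k] {L : Type u} [Field L]
    [Algebra k L] {x : Fin (n + 1) → L} {d : ℝ}, IsCone k x r → HasDeg k x r d → d ≤ D0 →
    ∀ S : MvPolynomial (Fin (n + 1)) k, S.IsHomogeneous c → aeval x S ≠ 0 →
    (Nat.card {v : ConePts k x k // eval v.1 S = 0} : ℝ) ≤ A * (Nat.card k : ℝ) ^ r := by
  classical
  set T : ℕ := D0 * D0 + D0 + 1 with hT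
  set W : ℕ := (2 * D0 * D0 + (D0 + c + 2 * D0 * D0) * (D0 + c + 2 * D0 * D0)) * D0 ^ (n + 1) + T ^ (n + 1) with hW
  refine ⟨(W : ℝ), Nat.cast_nonneg _, fun {k} _ _ {L} _ _ {x d} hx hd hD0 S hS hS0 => ?_⟩
  suffices h : Nat.card {v : ConePts k x k // eval v.1 S = 0} ≤ W * Nat.card k ^ r by exact_mod_cast h
  by_cases hq : T < Nat.card k
  swap
  · push Not at hq
    refine ((Nat.card_le_card_of_injective _ Subtype.val_injective).trans card_conePts_trivial).trans ?_
    calc Nat.card k ^ (n + 1) ≤ T ^ (n + 1) * 1 := by rw [mul_one]; gcongr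
      _ ≤ _ := Nat.mul_le_mul (by rw [hW]; exact Nat.le_add_left _ _) (Nat.one_le_pow _ _ Nat.card_pos)
  have hd0 : 0 ≤ d := ge_of_tendsto hd (Filter.Eventually.of_forall fun D => by positivity) |> fun h => by
    by_contra hlt
    push Not at hlt
    have h2 : d / (r.factorial : ℝ) < 0 := div_neg_of_neg_of_pos hlt (by positivity)
    linarith
  have hqd : d * d + d + 1 < (Nat.card k : ℝ) := by
    have h : ((T : ℕ) : ℝ) < (Nat.card k : ℝ) := by exact_mod_cast hq
    rw [hT] at h
    push_cast at h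
    nlinarith
  obtain ⟨M, hMe⟩ := exists_model hx hd hqd
  have hMD : M.e ≤ D0 := by exact_mod_cast hMe.trans hD0
  obtain ⟨l, -, hl, hlP⟩ := exists_forms M.mem
  obtain ⟨Q, hQh, hQ⟩ := M.mul_mem c (aeval x S) (aeval_mem_piece hS)
  let fs := finSuccEquiv k (r + 1)
  set g := fs M.G
  set h := fs Q
  have hΔ0 : aeval M.y M.Δ ≠ 0 := fun h0 =>
    M.Δ_ne (algebraicIndependent_iff_injective_aeval.mp M.indep (by rw [h0, map_zero]))
  have hnd : ¬ M.G ∣ Q := fun hdvd => mul_ne_zero hΔ0 hS0 (by rw [← hQ]; exact (M.ker Q).mpr hdvd)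
  let K := FractionRing (MvPolynomial (Fin (r + 1)) k)
  set φ := algebraMap (MvPolynomial (Fin (r + 1)) k) K
  have hres : Polynomial.resultant g h ≠ 0 := by
    intro h0
    have hirr : Irreducible (g.map φ) :=
      M.G_monic.irreducible_iff_irreducible_map_fraction_map.mp ((MulEquiv.irreducible_iff fs.toMulEquiv).mpr M.G_irr)
    have hcop : IsCoprime (g.map φ) (h.map φ) := by
      refine (Irreducible.coprime_iff_not_dvd hirr).mpr fun hdvd => hnd ?_
      obtain ⟨c, hc⟩ := M.G_monic.isPrimitive.dvd_of_fraction_map_dvd_fraction_map hdvd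
      exact ⟨fs.symm c, fs.injective (by rw [map_mul, AlgEquiv.apply_symm_apply]; exact hc)⟩
    have h2 := Polynomial.resultant_ne_zero _ _ hcop
    rw [Polynomial.resultant_map_map, Polynomial.natDegree_map_eq_of_injective (IsFractionRing.injective _ K),
      Polynomial.natDegree_map_eq_of_injective (IsFractionRing.injective _ K)] at h2
    exact h2 (by rw [h0, map_zero])
  set R := Polynomial.resultant g h
  have hgd : g.natDegree = M.e := M.G_deg
  have hcoef : ∀ (P : MvPolynomial (Fin (r + 2)) k) (i : ℕ), ((fs P).coeff i).totalDegree ≤ P.totalDegree := fun P i => by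
    by_cases h0 : (fs P).coeff i = 0
    · rw [h0, totalDegree_zero]; exact Nat.zero_le _
    · exact le_trans (Nat.le_add_right _ i) (totalDegree_coeff_finSuccEquiv_add_le P i h0)
  have hdeg : R.totalDegree ≤ (D0 + c + 2 * D0 * D0) * (D0 + c + 2 * D0 * D0) := by
    have hce : c + M.c ≤ c + 2 * D0 * D0 := by
      have := M.c_le
      have : 2 * M.e * M.e ≤ 2 * D0 * D0 := by gcongr
      omega
    have hQd : Q.totalDegree ≤ c + M.c := hQh.totalDegree_le
    have hGd : M.G.totalDegree = M.e := M.G_hom.totalDegree M.G_irr.ne_zero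
    refine (resultant_measure_le (fun a : MvPolynomial (Fin (r + 1)) k => a.totalDegree) totalDegree_zero totalDegree_one
      (fun a => totalDegree_neg a) (fun a b => totalDegree_add a b) (fun a b => totalDegree_mul a b)
      (c := D0 + c + 2 * D0 * D0) (fun i => (hcoef _ i).trans (by omega)) (fun i => (hcoef _ i).trans (by omega)) _ _).trans
      (Nat.mul_le_mul_right _ ?_)
    have : h.natDegree ≤ Q.totalDegree := by
      rw [natDegree_finSuccEquiv]; exact degreeOf_le_totalDegree _ _
    omega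
  obtain ⟨pa, pb, hbez⟩ : ∃ a b, g * a + h * b = Polynomial.C R := by
    obtain ⟨a, b, -, -, hab⟩ := Polynomial.exists_mul_add_mul_eq_C_resultant (m := g.natDegree) (n := h.natDegree) g h
      le_rfl le_rfl (Or.inl (hgd ▸ M.e_pos.ne'))
    exact ⟨a, b, hab⟩
  set E := M.Δ * R
  have hE : E ≠ 0 := mul_ne_zero M.Δ_ne hres
  have hEd : E.totalDegree ≤ 2 * D0 * D0 + (D0 + c + 2 * D0 * D0) * (D0 + c + 2 * D0 * D0) := by
    refine (totalDegree_mul _ _).trans (add_le_add ?_ hdeg)
    refine ((M.Δ_hom.totalDegree M.Δ_ne).le.trans M.c_le).trans ?_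
    gcongr
  have hincl : ∀ v : ConePts k x k, eval v.1 S = 0 → eval (fun j => eval v.1 (l j.succ)) E = 0 := by
    intro v hv
    let w : Fin (r + 2) → k := fun j => eval v.1 (l j)
    have hlev : ∀ P : MvPolynomial (Fin (r + 2)) k, eval v.1 (aeval l P) = eval w P := fun P => by
      rw [← aeval_eq_eval, ← aeval_eq_eval, ← AlgHom.comp_apply, comp_aeval]
      try rfl
    have hG0 : eval w M.G = 0 := by
      rw [← hlev, ← aeval_eq_eval]
      exact v.2 _ (by rw [hlP, (M.ker M.G).mpr dvd_rfl])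
    have hQ0 : eval w Q = 0 := by
      let Rl : MvPolynomial (Fin (n + 1)) k := aeval l Q - aeval l (rename Fin.succ M.Δ) * S
      have h1 := v.2 Rl (by
        simp only [Rl, map_sub, map_mul, hlP]
        rw [hQ, aeval_rename, show (Fin.cons M.θ M.y : Fin (r + 2) → L) ∘ Fin.succ = M.y from funext fun j => by simp,
          sub_self])
      rw [aeval_eq_eval] at h1
      change eval v.1 (aeval l Q - aeval l (rename Fin.succ M.Δ) * S) = 0 at h1
      rwa [map_sub, map_mul, hv, mul_zero, sub_zero, hlev] at h1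
    have hev : ∀ P, ((fs P).map (eval fun j => w j.succ)).eval (w 0) = eval w P := fun P => by
      rw [← finSuccEquiv_eval, show (Fin.cons (w 0) fun j => w j.succ : Fin (r + 2) → k) = w from Fin.cons_self_tail _]
    have h2 := congrArg (fun p : Polynomial _ => (p.map (eval fun j => w j.succ)).eval (w 0)) hbez
    simp only [Polynomial.map_add, Polynomial.map_mul, Polynomial.eval_add, Polynomial.eval_mul, Polynomial.map_C,
      Polynomial.eval_C, g, h, hev, hG0, hQ0, zero_mul, add_zero] at h2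
    show eval (fun j => w j.succ) (M.Δ * R) = 0
    rw [map_mul, ← h2, mul_zero]
  have hinj : Nat.card {v : ConePts k x k // eval v.1 S = 0} ≤
      Nat.card {v : ConePts k x k // eval (fun j => eval v.1 (l j.succ)) E = 0} :=
    Nat.card_le_card_of_injective (fun v => ⟨v.1, hincl v.1 v.2⟩) fun a b h => Subtype.ext (congrArg Subtype.val h :)
  refine hinj.trans ((card_conePts_le hx hd M.indep M.y_mem M.integral hD0 (l := fun j => l j.succ)
    (fun j => (hl j.succ).trans (Fin.cons_succ _ _ _)) (fun w => eval w E = 0)).trans ?_)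
  have hz := card_zeros_le (p := E) hE
  rw [Nat.card_fin, pow_succ, ← mul_assoc] at hz
  refine (Nat.mul_le_mul_right _ ((Nat.le_of_mul_le_mul_right hz Nat.card_pos).trans
    (Nat.mul_le_mul_right _ hEd))).trans ?_
  rw [mul_right_comm]
  exact Nat.mul_le_mul_right _ (by rw [hW]; exact Nat.le_add_right _ _)

end Groth.L03.LWU
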