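import Groth.Agent.L03.LWU.Cone.Normal
import Groth.Agent.L03.LWU.Disc
import Mathlib.RingTheory.AlgebraicIndependent.Adjoin
import Mathlib.RingTheory.DedekindDomain.Different
import Mathlib.RingTheory.Polynomial.GaussLemma
import Mathlib.FieldTheory.PrimitiveElement
import Mathlib.RingTheory.Trace.Basic

/-!
# The birational projection to a hypersurface
-/

set_option autoImplicit false
set_option linter.style.haveILetI false
universe u v

open MvPolynomial

namespace Groth.L03.LWU

variable (k : Type u) [Field k] {L : Type v} [Field L] [Algebra k L] {n : ℕ} (x : Fin (n + 1) → L) (r : ℕ)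

/-- A birational linear projection of the cone to a hypersurface, with a universal denominator. -/
structure Model where
  y : Fin (r + 1) → L
  θ : L
  e : ℕ
  G : MvPolynomial (Fin (r + 2)) k
  Δ : MvPolynomial (Fin (r + 1)) k
  c : ℕ
  y_mem : ∀ i, y i ∈ piece k x 1
  θ_mem : θ ∈ piece k x 1
  indep : AlgebraicIndependent k y
  integral : ∀ i, IsIntegral (Algebra.adjoin k (Set.range y)) (x i)
  G_irr : Irreducible G
  G_hom : G.IsHomogeneous e
  G_monic : (finSuccEquiv k (r + 1) G).Monic
  G_deg : (finSuccEquiv k (r + 1) G).natDegree = e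
  G_sep : Polynomial.derivative (finSuccEquiv k (r + 1) G) ≠ 0
  ker : ∀ Q, aeval (Fin.cons θ y : Fin (r + 2) → L) Q = 0 ↔ G ∣ Q
  Δ_hom : Δ.IsHomogeneous c
  Δ_ne : Δ ≠ 0
  c_le : c ≤ 2 * e * e
  mul_mem : ∀ D, ∀ z ∈ piece k x D, ∃ Q : MvPolynomial (Fin (r + 2)) k,
    Q.IsHomogeneous (D + c) ∧ aeval (Fin.cons θ y : Fin (r + 2) → L) Q = aeval y Δ * z

variable {k} {x} {r}

/-- A basis of monomials over the field of a normalising family bounds its size by the degree. -/
theorem finrank_le_deg (hx : IsCone k x r) {d : ℝ} (hd : HasDeg k x r d) {y : Fin (r + 1) → L}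
    (hy : ∀ i, y i ∈ piece k x 1) (hind : AlgebraicIndependent k y)
    {K : Type*} [Field K] [Algebra K L] [Algebra (MvPolynomial (Fin (r + 1)) k) K]
    (hK : ∀ a, algebraMap K L (algebraMap (MvPolynomial (Fin (r + 1)) k) K a) = aeval y a)
    [Algebra k K] [IsScalarTower k K L] [FiniteDimensional K L] (hgen : Algebra.adjoin K (Set.range x) = ⊤) :
    (Module.finrank K L : ℝ) ≤ d := by
  classical
  let mon : Submonoid L := Submonoid.closure (Set.range x)
  have hspan : Submodule.span K (mon : Set L) = ⊤ := by
    rw [← Algebra.adjoin_eq_span, hgen, Algebra.top_toSubmodule]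
  obtain ⟨b, hb, hbspan, hbli⟩ := exists_linearIndependent K (mon : Set L)
  rw [hspan] at hbspan
  haveI : Finite b := hbli.finite
  haveI := Fintype.ofFinite b
  have hcard : Fintype.card b = Module.finrank K L := by
    have hB := Module.Basis.mk hbli (by rw [Subtype.range_coe_subtype, Set.setOf_mem_eq, hbspan])
    exact (Module.finrank_eq_card_basis hB).symm
  have hdeg : ∀ z : b, ∃ D, (z : L) ∈ piece k x D := fun z => by
    refine Submonoid.closure_induction (fun w ⟨i, hi⟩ => ⟨1, hi ▸ mem_piece_one i⟩)
      ⟨0, by simpa using algebraMap_mem_piece (k := k) (x := x) 1⟩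
      (fun a c _ _ ⟨Da, ha⟩ ⟨Dc, hc⟩ => ⟨Da + Dc, mul_mem_piece ha hc⟩) (hb z.2)
  choose D hD using hdeg
  let a := Finset.univ.sup D
  have hy0 : y 0 ≠ 0 := hind.ne_zero 0
  refine hd.le_of_choose_le (a := a) (Filter.Eventually.of_forall fun E => ?_)
  haveI := (finrank_forms k r E).1
  let B := Module.finBasis k (homogeneousSubmodule (Fin (r + 1)) k E)
  let f : Fin (Module.finrank k (homogeneousSubmodule (Fin (r + 1)) k E)) → K :=
    fun i => algebraMap (MvPolynomial (Fin (r + 1)) k) K (B i).1
  have hf : LinearIndependent k f := by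
    have h1 : LinearIndependent k fun i => aeval y (B i).1 :=
      (B.linearIndependent.map' (homogeneousSubmodule (Fin (r + 1)) k E).subtype (Submodule.ker_subtype _)).map'
        (aeval y).toLinearMap (LinearMap.ker_eq_bot.mpr (algebraicIndependent_iff_injective_aeval.mp hind))
    refine LinearIndependent.of_comp (IsScalarTower.toAlgHom k K L).toLinearMap ?_
    convert h1 using 1
    funext i
    exact hK _
  let g : b → L := fun z => (z : L) * y 0 ^ (a - D z)
  have hg : LinearIndependent K g := by
    have h2 : LinearIndependent K fun z : b => algebraMap K L (algebraMap _ K (X 0 : MvPolynomial (Fin (r + 1)) k)) ^ (a - D z) • (z : L) := by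
      have hu : ∀ z : b, IsUnit ((algebraMap (MvPolynomial (Fin (r + 1)) k) K (X 0)) ^ (a - D z)) := fun z => by
        refine (isUnit_iff_ne_zero.mpr fun h => hy0 ?_).pow _
        have := congrArg (algebraMap K L) h
        rwa [hK, aeval_X, map_zero] at this
      have h3 := hbli.units_smul fun z => (hu z).unit
      convert h3 using 1
      funext z
      rw [Pi.smul_apply', Units.smul_def, IsUnit.unit_spec, Algebra.smul_def ((algebraMap _ K (X 0 : MvPolynomial (Fin (r + 1)) k)) ^ (a - D z)),
        map_pow, smul_eq_mul]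
      all_goals rfl
    convert h2 using 1
    funext z
    rw [hK, aeval_X, smul_eq_mul, mul_comm]
  have hli := linearIndependent_smul hf hg
  have hmem : ∀ p : Fin (Module.finrank k (homogeneousSubmodule (Fin (r + 1)) k E)) × b,
      f p.1 • g p.2 ∈ piece k x (E + a) := by
    intro p
    rw [Algebra.smul_def, hK]
    refine mul_mem_piece (aeval_forms_mem_piece_one hy (B p.1).2) ?_
    have h := mul_mem_piece (hD p.2) (pow_mem_piece (hy 0) (a - D p.2))
    rwa [one_mul, Nat.add_sub_cancel' (Finset.le_sup (Finset.mem_univ p.2))] at h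
  have h := le_coneDim_of_linearIndependent hli hmem
  rw [Fintype.card_prod, Fintype.card_fin, hcard, (finrank_forms k r E).2, mul_comm] at h
  exact_mod_cast h

theorem exists_primitive_form {k : Type u} [Field k] [Finite k] {L : Type v} [Field L] {n : ℕ}
    (x : Fin (n + 1) → L) {K : Type*} [Field K] [Algebra k K] [Algebra K L] [Algebra k L] [IsScalarTower k K L]
    [FiniteDimensional K L] [Algebra.IsSeparable K L] (hgen : Algebra.adjoin K (Set.range x) = ⊤)
    (hq : Module.finrank K L * Module.finrank K L < Nat.card k) :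
    ∃ c : Fin (n + 1) → k, IntermediateField.adjoin K {∑ i, algebraMap k L (c i) * x i} = ⊤ := by
  classical
  let Ω := AlgebraicClosure L
  haveI : Fintype (L →ₐ[K] Ω) := inferInstance
  let P := {p : (L →ₐ[K] Ω) × (L →ₐ[K] Ω) // p.1 ≠ p.2}
  have hne : ∀ p : P, ∃ i, p.1.1 (x i) ≠ p.1.2 (x i) := fun p => by
    by_contra! h
    apply p.2
    refine AlgHom.ext_of_adjoin_eq_top hgen ?_
    rintro _ ⟨i, rfl⟩
    exact h i
  have hlam : ∀ p : P, ∃ lam : Module.Dual k Ω, ∃ i, lam (p.1.1 (x i) - p.1.2 (x i)) ≠ 0 := fun p => by
    obtain ⟨i, hi⟩ := hne p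
    obtain ⟨lam, hlam⟩ := Module.Projective.exists_dual_ne_zero k (sub_ne_zero.mpr hi)
    exact ⟨lam, i, hlam⟩
  choose lam hlam using hlam
  let lin : P → MvPolynomial (Fin (n + 1)) k := fun p => ∑ i, C (lam p (p.1.1 (x i) - p.1.2 (x i))) * X i
  have hlin : ∀ p, lin p ≠ 0 := fun p h => by
    obtain ⟨i, hi⟩ := hlam p
    have := congrArg (coeff (Finsupp.single i 1)) h
    apply hi
    simpa [lin, coeff_sum, coeff_C_mul, coeff_X', Finsupp.single_left_inj, map_sub, sub_mul] using this
  have hdeg : (∏ p, lin p).totalDegree < Nat.card k := by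
    refine lt_of_le_of_lt ((totalDegree_finsetProd _ _).trans ((Finset.sum_le_card_nsmul _ _ 1 fun p _ => ?_).trans ?_)) hq
    · exact (totalDegree_finsetSum _ _).trans
        (Finset.sup_le fun i _ => (totalDegree_mul _ _).trans (by simp only [totalDegree_C, totalDegree_X, zero_add, le_refl]))
    · rw [smul_eq_mul, mul_one, Finset.card_univ]
      refine (Fintype.card_subtype_le _).trans ?_
      rw [Fintype.card_prod]
      simp only [Fintype.card_eq_nat_card]
      rw [AlgHom.natCard_of_splits K L Ω (fun z => IsAlgClosed.splits _)]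
  obtain ⟨c, hc⟩ := exists_eval_ne_zero (Finset.prod_ne_zero_iff.mpr fun p _ => hlin p) hdeg
  rw [map_prod, Finset.prod_ne_zero_iff] at hc
  refine ⟨c, ?_⟩
  refine (Field.primitive_element_iff_algHom_eq_of_eval' K Ω (fun z => IsAlgClosed.splits _) _).mpr fun φ ψ h => ?_
  by_contra hφψ
  apply hc ⟨(φ, ψ), hφψ⟩ (Finset.mem_univ _)
  simp only [lin, map_sum, map_mul, eval_C, eval_X]
  have hcomm : ∀ (f : L →ₐ[K] Ω) (a : k), f (algebraMap k L a) = algebraMap k Ω a := fun f a => by
    rw [IsScalarTower.algebraMap_apply k K L, f.commutes, IsScalarTower.algebraMap_apply K L Ω,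
      ← IsScalarTower.algebraMap_apply k K L, ← IsScalarTower.algebraMap_apply k L Ω]
  have h0 : ∑ i, c i • (φ (x i) - ψ (x i)) = 0 := by
    simp only [map_sum, map_mul, hcomm] at h
    simp only [Algebra.smul_def, mul_sub, Finset.sum_sub_distrib, h, sub_self]
  have h1 := congrArg (lam ⟨(φ, ψ), hφψ⟩) h0
  simp only [map_sum, map_smul, smul_eq_mul, map_zero] at h1
  rw [← h1]
  exact Finset.sum_congr rfl fun i _ => mul_comm _ _

theorem exists_model [Finite k] (hx : IsCone k x r) {d : ℝ} (hd : HasDeg k x r d)
    (hq : d * d + d + 1 < Nat.card k) : ∃ M : Model k x r, (M.e : ℝ) ≤ d := by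
  classical
  obtain ⟨y, hind, hnorm⟩ := hx.exists_normFam hd (by nlinarith [mul_self_nonneg d])
  let A := MvPolynomial (Fin (r + 1)) k
  let K := FractionRing A
  have hinj : Function.Injective (aeval y : A →ₐ[k] L) := algebraicIndependent_iff_injective_aeval.mp hind
  letI : Algebra A L := (aeval y : A →ₐ[k] L).toRingHom.toAlgebra
  haveI : IsScalarTower k A L := IsScalarTower.of_algebraMap_eq fun c => (aeval_C y c).symm
  letI : Algebra K L := (IsFractionRing.lift hinj : K →+* L).toAlgebra
  have hK : ∀ a : A, algebraMap K L (algebraMap A K a) = aeval y a := fun a => IsFractionRing.lift_algebraMap hinj a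
  haveI : IsScalarTower A K L := IsScalarTower.of_algebraMap_eq fun a => (hK a).symm
  haveI : IsScalarTower k K L := IsScalarTower.of_algebraMap_eq fun c => by
    rw [IsScalarTower.algebraMap_apply k A K, hK, AlgHom.commutes]
  -- transport along `K ≃ k(y)`
  let ε := hind.aevalEquivField
  have hε : ∀ a : K, (ε a : L) = algebraMap K L a := fun a => hind.aevalEquivField_apply_coe a
  have hsep : ∀ i, IsSeparable K (x i) := fun i => by
    let q := (minpoly (IntermediateField.adjoin k (Set.range y)) (x i)).map (ε.symm : IntermediateField.adjoin k (Set.range y) →+* K)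
    have hq : q.Separable := Polynomial.Separable.map (hnorm.sep i)
    refine hq.of_dvd (minpoly.dvd K (x i) ?_)
    rw [Polynomial.aeval_def, Polynomial.eval₂_map]
    have : (algebraMap K L).comp (ε.symm : IntermediateField.adjoin k (Set.range y) →+* K) =
        algebraMap (IntermediateField.adjoin k (Set.range y)) L := RingHom.ext fun a => by
      show algebraMap K L (ε.symm a) = (a : L)
      rw [← hε, AlgEquiv.apply_symm_apply]
    rw [this, ← Polynomial.aeval_def, minpoly.aeval]
  have hgenF : IntermediateField.adjoin K (Set.range x) = ⊤ := by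
    rw [eq_top_iff]
    intro z _
    have hle : IntermediateField.adjoin k (Set.range x) ≤ (IntermediateField.adjoin K (Set.range x)).restrictScalars k :=
      IntermediateField.adjoin_le_iff.mpr fun _ h => IntermediateField.subset_adjoin K _ h
    exact hle (by rw [hx.gen]; trivial)
  haveI : FiniteDimensional K L := by
    haveI := IntermediateField.finiteDimensional_adjoin (S := Set.range x) (K := K) fun z ⟨i, hi⟩ => hi ▸ (hsep i).isIntegral
    rw [hgenF] at this
    exact LinearEquiv.finiteDimensional IntermediateField.topEquiv.toLinearEquiv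
  haveI : Algebra.IsSeparable K L := by
    haveI := (IntermediateField.isSeparable_adjoin_iff_isSeparable K L).mpr (fun z (hz : z ∈ Set.range x) => by
      obtain ⟨i, rfl⟩ := hz; exact hsep i)
    rw [hgenF] at this
    exact AlgEquiv.Algebra.isSeparable IntermediateField.topEquiv
  have hgen : Algebra.adjoin K (Set.range x) = ⊤ := by
    rw [← IntermediateField.adjoin_toSubalgebra_of_isAlgebraic (S := Set.range x)
      (fun z hz => Exists.elim hz fun i hi => hi ▸ (hsep i).isIntegral.isAlgebraic),
      hgenF, IntermediateField.top_toSubalgebra]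
  set e := Module.finrank K L with he
  have hed : (e : ℝ) ≤ d := finrank_le_deg hx hd hnorm.mem hind hK hgen
  have hd0 : (0 : ℝ) ≤ d := le_trans (Nat.cast_nonneg _) hed
  obtain ⟨c₀, hc₀⟩ := exists_primitive_form x hgen (by
    have h1 : ((e * e : ℕ) : ℝ) < (Nat.card k : ℝ) := by
      push_cast
      nlinarith [(Nat.cast_nonneg e : (0 : ℝ) ≤ e)]
    exact_mod_cast h1)
  set θ : L := ∑ i, algebraMap k L (c₀ i) * x i with hθ
  have hθmem : θ ∈ piece k x 1 := Submodule.sum_mem _ fun i _ => by
    rw [← Algebra.smul_def]
    exact Submodule.smul_mem _ _ (mem_piece_one i)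
  have hintB : ∀ z : L, IsIntegral (Algebra.adjoin k (Set.range y)) z → IsIntegral A z := fun z hz => by
    obtain ⟨p, hp, hp0⟩ := hz
    let π : A →+* Algebra.adjoin k (Set.range y) := (hind.aevalEquiv : A →+* _)
    have hl : p ∈ Polynomial.lifts π := (Polynomial.lifts_iff_coeff_lifts p).mpr fun i => hind.aevalEquiv.surjective (p.coeff i)
    obtain ⟨q, hq, -, hqm⟩ := Polynomial.lifts_and_degree_eq_and_monic hl hp
    refine ⟨q, hqm, ?_⟩
    rw [← hp0, ← hq, Polynomial.eval₂_map]
    congr 1
  have hxint : ∀ i, IsIntegral A (x i) := fun i => hintB _ (hnorm.integral i)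
  have hint : ∀ D, ∀ z ∈ piece k x D, IsIntegral A z := fun D z hz => by
    obtain ⟨P, -, rfl⟩ := mem_piece.mp hz
    refine MvPolynomial.induction_on (motive := fun P => IsIntegral A (aeval x P)) P (fun c => ?_) (fun p q hp hq => ?_) (fun p i hp => ?_)
    · rw [aeval_C, IsScalarTower.algebraMap_apply k A L]; exact isIntegral_algebraMap
    · rw [map_add]; exact hp.add hq
    · rw [map_mul, aeval_X]; exact hp.mul (hxint i)
  have hθint : IsIntegral A θ := hint 1 θ hθmem
  obtain ⟨P, δ, hPirr, hPh, hδ, hPker⟩ := hx.exists_relation hd hind hnorm.mem hθmem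
  set u : Fin (r + 2) → L := Fin.cons θ y with hu
  let fs := finSuccEquiv k (r + 1)
  have heval : ∀ Q, aeval u Q = Polynomial.aeval θ (fs Q) := fun Q => by
    have h : (aeval u : MvPolynomial (Fin (r + 2)) k →ₐ[k] L).toRingHom =
        ((Polynomial.aeval θ : Polynomial A →ₐ[A] L) : Polynomial A →+* L).comp fs.toRingEquiv.toRingHom := by
      refine MvPolynomial.ringHom_ext (fun c => ?_) fun i => ?_
      · have he : fs (C c) = Polynomial.C (C c) := by simp [fs, finSuccEquiv_apply]
        show aeval u (C c) = Polynomial.aeval θ (fs (C c))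
        rw [he, Polynomial.aeval_C, aeval_C]
        exact (aeval_C y c).symm
      · refine Fin.cases ?_ (fun j => ?_) i
        · show aeval u (X 0) = Polynomial.aeval θ (fs (X 0))
          simp [fs, finSuccEquiv_X_zero, u]
        · show aeval u (X j.succ) = Polynomial.aeval θ (fs (X j.succ))
          rw [finSuccEquiv_X_succ, Polynomial.aeval_C, aeval_X]
          exact (aeval_X y j).symm
    exact RingHom.congr_fun h Q
  set g : Polynomial A := minpoly A θ with hg
  have hgm : g.Monic := minpoly.monic hθint
  have hgirr : Irreducible g := minpoly.irreducible hθint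
  have hgK : g.map (algebraMap A K) = minpoly K θ := (minpoly.isIntegrallyClosed_eq_field_fractions' K hθint).symm
  have hge : g.natDegree = e := by
    rw [← hgm.natDegree_map (algebraMap A K), hgK, ← IntermediateField.adjoin.finrank (IsIntegral.of_finite K θ), hc₀,
      IntermediateField.finrank_top']
  set G := fs.symm g with hG
  have hfsG : fs G = g := fs.apply_symm_apply g
  have hGirr : Irreducible G := (MulEquiv.irreducible_iff fs.symm.toMulEquiv).mpr hgirr
  have hG0 : aeval u G = 0 := by rw [heval, hfsG, hg, minpoly.aeval]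
  have hGP : Associated P G := hPirr.associated_of_dvd hGirr ((hPker G).mp hG0)
  have hGker : ∀ Q, aeval u Q = 0 ↔ G ∣ Q := fun Q => (hPker Q).trans hGP.dvd_iff_dvd_left
  have hGh : G.IsHomogeneous δ := by
    obtain ⟨w, hw⟩ := hGP
    rw [← hw]
    obtain ⟨hw1, hw2⟩ := (isUnit_iff_totalDegree_of_isReduced).mp w.isUnit
    have := hPh.mul ((isHomogeneous_of_totalDegree_zero _ hw2) : IsHomogeneous (w : MvPolynomial (Fin (r + 2)) k) 0)
    rwa [add_zero] at this
  have hδe : δ = e := by
    have h1 : coeff (Finsupp.single 0 e) G = 1 := by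
      have h : coeff 0 ((fs G).coeff e) = 1 := by rw [hfsG, ← hge, hgm.coeff_natDegree, coeff_zero_one]
      rw [finSuccEquiv_coeff_coeff] at h
      convert h using 2
      refine Finsupp.ext fun i => Fin.cases ?_ (fun j => ?_) i <;> simp [Finsupp.single_apply]
    have h2 := hGh (show coeff (Finsupp.single 0 e) G ≠ 0 by rw [h1]; exact one_ne_zero)
    simpa [Finsupp.weight_apply, Finsupp.sum_single_index] using h2.symm
  subst hδe
  have hgsep : Polynomial.derivative g ≠ 0 := by
    intro h
    have := (Polynomial.separable_iff_derivative_ne_zero (minpoly.irreducible (IsIntegral.of_finite K θ))).mp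
      (Algebra.IsSeparable.isSeparable K θ)
    rw [← hgK, Polynomial.derivative_map, h, Polynomial.map_zero] at this
    exact this rfl
  have hed1 : 1 ≤ g.natDegree := minpoly.natDegree_pos hθint
  set R := Polynomial.resultant g (Polynomial.derivative g) with hR
  have hR0 : R ≠ 0 := resultant_derivative_ne_zero hgm hgirr hgsep
  obtain ⟨pa, pb, hbez⟩ := exists_bezout_derivative (g := g) hed1
  have hRz : ∀ z : L, IsIntegral A z → aeval y R * z ∈ Algebra.adjoin A ({θ} : Set L) := by
    intro z hz
    have htop : Algebra.adjoin K ({θ} : Set L) = ⊤ := by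
      rw [← IntermediateField.adjoin_simple_toSubalgebra_of_isAlgebraic (IsIntegral.of_finite K θ).isAlgebraic, hc₀,
        IntermediateField.top_toSubalgebra]
    have hmem : z ∈ (Algebra.traceForm K L).dualSubmodule (Subalgebra.toSubmodule (Algebra.adjoin A ({θ} : Set L))) := by
      intro w hw
      rw [Algebra.traceForm_apply, Submodule.mem_one]
      have hwint : IsIntegral A w := adjoin_le_integralClosure hθint hw
      exact IsIntegrallyClosed.isIntegral_iff.mp (Algebra.isIntegral_trace (hz.mul hwint))
    rw [traceForm_dualSubmodule_adjoin A K htop hθint] at hmem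
    obtain ⟨w, hw, hwz⟩ := Submodule.mem_smul_pointwise_iff_exists _ _ _ |>.mp hmem
    have hg' : Polynomial.aeval θ (Polynomial.derivative (minpoly K θ)) ≠ 0 :=
      (Algebra.IsSeparable.isSeparable K θ).aeval_derivative_ne_zero (minpoly.aeval K θ)
    have hg'z : Polynomial.aeval θ (Polynomial.derivative g) * z = w := by
      have : Polynomial.aeval θ (Polynomial.derivative (minpoly K θ)) = Polynomial.aeval θ (Polynomial.derivative g) := by
        rw [← hgK, Polynomial.derivative_map, Polynomial.aeval_map_algebraMap]
      rw [← hwz, smul_eq_mul, ← this, mul_inv_cancel_left₀ hg']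
    have hb := congrArg (Polynomial.aeval θ) hbez
    rw [map_add, map_mul, map_mul, hg, minpoly.aeval, zero_mul, zero_add, Polynomial.aeval_C] at hb
    change _ = aeval y R at hb
    rw [← hg] at hb
    rw [← hb, mul_comm (Polynomial.aeval θ (Polynomial.derivative g)), mul_assoc, hg'z]
    exact mul_mem (Polynomial.aeval_mem_adjoin_singleton A θ) hw
  have hRdeg : R.totalDegree ≤ 2 * g.natDegree * g.natDegree := by
    have hc : ∀ i, (g.coeff i).totalDegree ≤ g.natDegree := by
      intro i
      rw [← hfsG]
      refine Finset.sup_le fun m hm => ?_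
      rw [mem_support_coeff_finSuccEquiv] at hm
      have h := hGh (mem_support_iff.mp hm)
      rw [Finsupp.weight_apply, Finsupp.sum_fintype _ _ (fun _ => by simp), Fin.sum_univ_succ] at h
      rw [Finsupp.sum_fintype _ _ (fun _ => rfl)]
      simp at h
      rw [hfsG, hge]
      omega
    refine (resultant_measure_le (fun a : A => a.totalDegree) totalDegree_zero totalDegree_one
      (fun a => totalDegree_neg a) (fun a b => totalDegree_add a b) (fun a b => totalDegree_mul a b) hc
      (g := Polynomial.derivative g) (fun i => ?_) _ _).trans ?_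
    · rw [Polynomial.coeff_derivative, show (((i : A) + 1)) = C ((i : k) + 1) by simp]
      exact (totalDegree_mul _ _).trans (by rw [totalDegree_C, add_zero]; exact hc _)
    · refine Nat.mul_le_mul_right _ ?_
      have := Polynomial.natDegree_derivative_le g
      omega
  set c := R.totalDegree
  refine ⟨⟨y, θ, e, G, homogeneousComponent c R, c, hnorm.mem, hθmem, hind, hnorm.integral, hGirr, hGh,
    hfsG ▸ hgm, by rw [hfsG, hge], hfsG ▸ hgsep, hGker, homogeneousComponent_isHomogeneous _ _,
    homogeneousComponent_totalDegree_ne_zero hR0, hge ▸ hRdeg, fun D z hz => ?_⟩, ?_⟩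
  · obtain ⟨q, hq⟩ : ∃ q : Polynomial A, Polynomial.aeval θ q = aeval y R * z := by
      have h := hRz z (hint D z hz)
      rw [Algebra.adjoin_singleton_eq_range_aeval] at h
      exact h
    refine ⟨homogeneousComponent (D + c) (fs.symm q), homogeneousComponent_isHomogeneous _ _, ?_⟩
    obtain ⟨Pz, hPz, rfl⟩ := mem_piece.mp hz
    -- take components of `Q(θ, y) - R(y) z`
    let W : Fin (r + 2) ⊕ Fin (n + 1) → L := Sum.elim u x
    have hW : ∀ i, W i ∈ piece k x 1 := fun i => Sum.casesOn i (fun a => Fin.cases hθmem hnorm.mem a) mem_piece_one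
    let T : MvPolynomial (Fin (r + 2) ⊕ Fin (n + 1)) k :=
      rename Sum.inl (fs.symm q) - rename (Sum.inl ∘ Fin.succ) R * rename Sum.inr Pz
    have hT : aeval W T = 0 := by
      simp only [T, map_sub, map_mul, aeval_rename]
      rw [show W ∘ Sum.inl = u from rfl, show W ∘ Sum.inr = x from rfl,
        show W ∘ (Sum.inl ∘ Fin.succ) = y from funext fun i => rfl, heval, fs.apply_symm_apply, hq, sub_self]
    have h := hx.component_eq_zero hW hT (D + c)
    have hcomp : ∀ {σ τ : Type} (f : σ → τ) (p : MvPolynomial σ k) (m : ℕ),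
        homogeneousComponent m (rename f p) = rename f (homogeneousComponent m p) := by
      intro σ τ f p m
      induction p using MvPolynomial.induction_on' with
      | monomial e a =>
        rw [rename_monomial, homogeneousComponent_of_mem (isHomogeneous_monomial a rfl),
          homogeneousComponent_of_mem (isHomogeneous_monomial a rfl)]
        have : (Finsupp.mapDomain f e).degree = e.degree := Finsupp.degree_mapDomain f e
        rw [this]
        split_ifs <;> simp [rename_monomial]
      | add p p' hp hp' => simp [hp, hp']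
    have hmul : homogeneousComponent (D + c) (rename (Sum.inl ∘ Fin.succ) R * rename Sum.inr Pz) =
        rename (Sum.inl ∘ Fin.succ) (homogeneousComponent c R) * rename Sum.inr Pz := by
      conv_lhs => rw [← sum_homogeneousComponent R, map_sum, Finset.sum_mul, map_sum]
      rw [Finset.sum_eq_single c]
      · rw [homogeneousComponent_of_mem
          (((homogeneousComponent_isHomogeneous c R).rename_isHomogeneous).mul hPz.rename_isHomogeneous),
          if_pos (add_comm D c)]
      · intro E _ hE
        rw [homogeneousComponent_of_mem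
          (((homogeneousComponent_isHomogeneous E R).rename_isHomogeneous).mul hPz.rename_isHomogeneous),
          if_neg (by omega)]
      · exact fun h => absurd (Finset.mem_range.mpr (Nat.lt_succ_self c)) h
    simp only [T, map_sub, hmul, hcomp, map_mul, aeval_rename, sub_eq_zero] at h
    rwa [show W ∘ Sum.inl = u from rfl, show W ∘ Sum.inr = x from rfl,
      show W ∘ (Sum.inl ∘ Fin.succ) = y from funext fun i => rfl] at h
  · exact hδ

end Groth.L03.LWU
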