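import Groth.Agent.L03.LWU.Cone.Relation
import Groth.Agent.L03.LWU.Poly2
import Mathlib.FieldTheory.SeparableClosure
import Mathlib.FieldTheory.Perfect
import Mathlib.FieldTheory.Finite.Basic

/-!
# Separable normalisation by linear forms
-/

set_option autoImplicit false
set_option linter.style.haveILetI false
universe u v

open MvPolynomial

namespace Groth.L03.LWU

variable (k : Type u) [Field k] {L : Type v} [Field L] [Algebra k L] {n : ℕ} (x : Fin (n + 1) → L)

/-- The coordinates are integral and separable over the family `u` of linear forms. -/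
structure NormFam {M : ℕ} (u : Fin M → L) : Prop where
  mem : ∀ i, u i ∈ piece k x 1
  integral : ∀ i, IsIntegral (Algebra.adjoin k (Set.range u)) (x i)
  sep : ∀ i, IsSeparable (IntermediateField.adjoin k (Set.range u)) (x i)

variable {k} {x} {r : ℕ}

theorem normFam_self : NormFam k x x where
  mem := mem_piece_one
  integral i := by
    have h : x i = algebraMap (Algebra.adjoin k (Set.range x)) L ⟨x i, Algebra.subset_adjoin ⟨i, rfl⟩⟩ := rfl
    rw [h]
    exact isIntegral_algebraMap
  sep i := by
    have h : x i = algebraMap (IntermediateField.adjoin k (Set.range x)) L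
        ⟨x i, IntermediateField.subset_adjoin k _ ⟨i, rfl⟩⟩ := rfl
    rw [h]
    exact isSeparable_algebraMap _

theorem isIntegral_of_generated (s : Set L) (t : Set L) (ht : ∀ a ∈ t, IsIntegral (Algebra.adjoin k s) a) {z : L}
    (hz : IsIntegral (Algebra.adjoin k t) z) : IsIntegral (Algebra.adjoin k s) z := by
  let B := Algebra.adjoin k s
  let S : Subalgebra B L := integralClosure B L
  have hle : Algebra.adjoin k t ≤ S.restrictScalars k := Algebra.adjoin_le fun a ha => ht a ha
  letI : Algebra (Algebra.adjoin k t) S := (Subalgebra.inclusion hle).toRingHom.toAlgebra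
  haveI : IsScalarTower (Algebra.adjoin k t) S L := IsScalarTower.of_algebraMap_eq fun _ => rfl
  exact isIntegral_trans (R := B) (A := S) z hz.tower_top

theorem isSeparable_of_generated (s : Set L) (t : Set L)
    (ht : ∀ a ∈ t, IsSeparable (IntermediateField.adjoin k s) a) {z : L}
    (hz : IsSeparable (IntermediateField.adjoin k t) z) : IsSeparable (IntermediateField.adjoin k s) z := by
  let F := IntermediateField.adjoin k s
  let E : IntermediateField F L := separableClosure F L
  have hle : IntermediateField.adjoin k t ≤ E.restrictScalars k :=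
    IntermediateField.adjoin_le_iff.mpr fun a ha => mem_separableClosure_iff.mpr (ht a ha)
  letI : Algebra (IntermediateField.adjoin k t) E := (IntermediateField.inclusion hle).toRingHom.toAlgebra
  haveI : IsScalarTower (IntermediateField.adjoin k t) E L := IsScalarTower.of_algebraMap_eq fun _ => rfl
  haveI : Algebra.IsSeparable F E := separableClosure.isSeparable F L
  exact IsSeparable.of_algebra_isSeparable_of_isSeparable F (IsSeparable.tower_top E hz)

namespace NormFam

variable {M : ℕ} {u : Fin M → L}

theorem isAlgebraic (hu : NormFam k x u) (hx : IsCone k x r) :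
    Algebra.IsAlgebraic (Algebra.adjoin k (Set.range u)) L := by
  let F := IntermediateField.adjoin k (Set.range u)
  haveI : Algebra.IsAlgebraic F L := by
    refine ⟨fun z => ?_⟩
    have hle : IntermediateField.adjoin k (Set.range x) ≤ (algebraicClosure F L).restrictScalars k :=
      IntermediateField.adjoin_le_iff.mpr fun _ ⟨i, hi⟩ => hi ▸ mem_algebraicClosure_iff'.mpr (hu.sep i).isIntegral
    exact ((mem_algebraicClosure_iff' ).mp (hle (by rw [hx.gen]; trivial : z ∈ IntermediateField.adjoin k (Set.range x)))).isAlgebraic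
  letI : Algebra (Algebra.adjoin k (Set.range u)) F :=
    (Subalgebra.inclusion (IntermediateField.algebra_adjoin_le_adjoin k (Set.range u))).toRingHom.toAlgebra
  haveI : IsScalarTower (Algebra.adjoin k (Set.range u)) F L := IsScalarTower.of_algebraMap_eq fun _ => rfl
  haveI : Algebra.IsAlgebraic (Algebra.adjoin k (Set.range u)) F := by
    refine ⟨fun z => ?_⟩
    obtain ⟨a, ha, b, hb, hz⟩ := IntermediateField.mem_adjoin_iff_div.mp z.2
    by_cases hb0 : b = 0
    · have h0 : z = 0 := by
        apply Subtype.ext
        show (z : L) = 0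
        rw [hz, hb0, div_zero]
      rw [h0]
      exact isAlgebraic_zero
    refine ⟨Polynomial.C ⟨b, hb⟩ * Polynomial.X - Polynomial.C ⟨a, ha⟩, fun h => hb0 ?_, ?_⟩
    · have h1 := congrArg (fun p => Polynomial.coeff p 1) h
      simp at h1
      exact congrArg Subtype.val h1
    · apply Subtype.ext
      simp only [map_sub, map_mul, Polynomial.aeval_C, Polynomial.aeval_X]
      show b * (z : L) - a = 0
      rw [hz, mul_div_cancel₀ _ hb0, sub_self]
  exact Algebra.IsAlgebraic.trans _ F L

theorem le (hu : NormFam k x u) (hx : IsCone k x r) : r + 1 ≤ M := by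
  haveI := hu.isAlgebraic hx
  have h := Algebra.IsAlgebraic.trdeg_le_cardinalMk k (Set.range u)
  rw [hx.dim] at h
  have h1 := (Cardinal.lift_le.{0}.mpr h).trans Cardinal.mk_range_le_lift
  rw [Cardinal.lift_natCast, Cardinal.mk_fin, Cardinal.lift_natCast] at h1
  exact_mod_cast h1

theorem algebraicIndependent (hx : IsCone k x r) {y : Fin (r + 1) → L} (hy : NormFam k x y) :
    AlgebraicIndependent k y := by
  haveI := hy.isAlgebraic hx
  refine (Algebra.IsAlgebraic.isTranscendenceBasis_of_lift_le_trdeg_of_finite k y ?_).1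
  rw [hx.dim, Cardinal.mk_fin, Cardinal.lift_natCast, Cardinal.lift_natCast]

end NormFam

/-- The substitution `X₀ ↦ T`, `Xᵢ ↦ uᵢ' + cᵢ T`. -/
theorem coeff_aeval_linear {σ : Type*} {A : Type*} [CommRing A] [Algebra k A] (g : σ → Polynomial A)
    (hg : ∀ i, (g i).natDegree ≤ 1) {P : MvPolynomial σ k} {δ : ℕ} (hP : P.IsHomogeneous δ) :
    (aeval g P).natDegree ≤ δ ∧ (aeval g P).coeff δ = aeval (fun i => (g i).coeff 1) P := by
  classical
  rw [P.as_sum]
  simp only [map_sum]
  have hdeg : ∀ e ∈ P.support, (aeval g (monomial e (coeff e P))).natDegree ≤ δ ∧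
      (aeval g (monomial e (coeff e P))).coeff δ = aeval (fun i => (g i).coeff 1) (monomial e (coeff e P)) := by
    intro e he
    have hd : ∑ i ∈ e.support, e i = δ := by
      have h := hP (mem_support_iff.mp he)
      rw [Finsupp.weight_apply, Finsupp.sum] at h
      simpa using h
    rw [aeval_monomial, aeval_monomial, Finsupp.prod, Finsupp.prod,
      show (algebraMap k (Polynomial A)) (coeff e P) = Polynomial.C (algebraMap k A (coeff e P)) from rfl]
    have h1 : ∀ i ∈ e.support, (g i ^ e i).natDegree ≤ e i := fun i _ =>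
      Polynomial.natDegree_pow_le.trans ((Nat.mul_le_mul_left _ (hg i)).trans_eq (mul_one _))
    have key : ∀ s ⊆ e.support, (∏ i ∈ s, g i ^ e i).natDegree ≤ ∑ i ∈ s, e i ∧
        (∏ i ∈ s, g i ^ e i).coeff (∑ i ∈ s, e i) = ∏ i ∈ s, (g i).coeff 1 ^ e i := by
      intro s
      induction s using Finset.induction_on with
      | empty => simp
      | @insert a s ha ih =>
        intro hs
        obtain ⟨hs1, hs2⟩ := ih ((Finset.subset_insert a s).trans hs)
        rw [Finset.prod_insert ha, Finset.sum_insert ha, Finset.prod_insert ha]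
        have ha' := h1 a (hs (Finset.mem_insert_self a s))
        refine ⟨Polynomial.natDegree_mul_le.trans (add_le_add ha' hs1), ?_⟩
        rw [Polynomial.coeff_mul_add_eq_of_natDegree_le ha' hs1, hs2]
        congr 1
        simpa using Polynomial.coeff_pow_of_natDegree_le (m := e a) (hg a)
    obtain ⟨hk1, hk2⟩ := key _ subset_rfl
    rw [hd] at hk1 hk2
    exact ⟨(Polynomial.natDegree_C_mul_le _ _).trans hk1, by rw [Polynomial.coeff_C_mul, hk2]⟩
  refine ⟨Polynomial.natDegree_sum_le_of_forall_le _ _ fun e he => (hdeg e he).1, ?_⟩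
  rw [Polynomial.finsetSum_coeff]
  exact Finset.sum_congr rfl fun e he => (hdeg e he).2

theorem eval_derivative_aeval {σ : Type*} [Fintype σ] {A : Type*} [CommRing A] [Algebra k A]
    (g : σ → Polynomial A) (t : A) (P : MvPolynomial σ k) :
    (Polynomial.derivative (aeval g P)).eval t =
      ∑ i, (Polynomial.derivative (g i)).eval t * aeval (fun j => (g j).eval t) (pderiv i P) := by
  classical
  induction P using MvPolynomial.induction_on with
  | C a =>
    rw [aeval_C, show (algebraMap k (Polynomial A)) a = Polynomial.C (algebraMap k A a) from rfl]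
    simp
  | add p q hp hq => simp only [map_add, Polynomial.eval_add, hp, hq, mul_add, Finset.sum_add_distrib]
  | mul_X p j hp =>
    have hev : Polynomial.eval t (aeval g p) = aeval (fun j => (g j).eval t) p := by
      have h : ((Polynomial.aeval t).restrictScalars k).comp (aeval g) = aeval fun j => (g j).eval t := by
        refine MvPolynomial.algHom_ext fun i => ?_
        simp
      rw [← h]
      simp
    simp only [map_mul, aeval_X, Polynomial.derivative_mul, Polynomial.eval_add, Polynomial.eval_mul, hp, hev,
      pderiv_mul, pderiv_X, map_add]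
    rw [Finset.sum_mul, Finset.sum_congr rfl (fun i _ => mul_add _ _ _), Finset.sum_add_distrib]
    congr 1
    · exact Finset.sum_congr rfl fun i _ => by ring
    · rw [Finset.sum_eq_single j]
      · simp [mul_comm]
      · intro i _ hi
        simp [Pi.single_eq_of_ne hi.symm]
      · simp

/-- Over a large finite field some shear makes the relation monic and separable. -/
theorem exists_shear [Finite k] {P : MvPolynomial (Fin (r + 2)) k} (hP : Irreducible P) {δ : ℕ}
    (hh : P.IsHomogeneous δ) {u : Fin (r + 2) → L} (hker : ∀ Q, aeval u Q = 0 ↔ P ∣ Q)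
    (hq : δ + 1 < Nat.card k) :
    ∃ c : Fin (r + 1) → k, eval (Fin.cons 1 c : Fin (r + 2) → k) P ≠ 0 ∧
      aeval u (pderiv 0 P) + ∑ i : Fin (r + 1), algebraMap k L (c i) * aeval u (pderiv i.succ P) ≠ 0 := by
  classical
  have hδ : P.totalDegree = δ := hh.totalDegree hP.ne_zero
  obtain ⟨i₀, hi₀⟩ := exists_pderiv_ne_zero hP
  have hval : aeval u (pderiv i₀ P) ≠ 0 := fun h =>
    absurd (totalDegree_le_of_dvd_of_isDomain ((hker _).mp h) hi₀) (not_le.mpr (totalDegree_pderiv_lt i₀ hi₀))
  let a : Fin (r + 2) → L := fun i => aeval u (pderiv i P)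
  obtain ⟨lam, hlam⟩ := Module.Projective.exists_dual_ne_zero k hval
  let lin : MvPolynomial (Fin (r + 1)) k := C (lam (a 0)) + ∑ i : Fin (r + 1), C (lam (a i.succ)) * X i
  have hlin : lin ≠ 0 := by
    intro h
    apply hlam
    change lam (a i₀) = 0
    refine Fin.cases ?_ (fun j => ?_) i₀
    · have := congrArg (coeff 0) h
      simpa [lin, coeff_sum, coeff_C_mul, coeff_X', Finsupp.single_eq_zero] using this
    · have := congrArg (coeff (Finsupp.single j 1)) h
      simpa [lin, coeff_sum, coeff_C_mul, coeff_X', coeff_C, Finsupp.single_left_inj, eq_comm (a := (0 : Fin (r + 1) →₀ ℕ))]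
        using this
  have hlin1 : lin.totalDegree ≤ 1 := by
    refine (totalDegree_add _ _).trans (max_le (by simp) ((totalDegree_finsetSum _ _).trans (Finset.sup_le fun i _ => ?_)))
    exact (totalDegree_mul _ _).trans (by simp)
  let P1 : MvPolynomial (Fin (r + 1)) k := aeval (Fin.cons 1 X : Fin (r + 2) → MvPolynomial (Fin (r + 1)) k) P
  have hP1 : P1 ≠ 0 := by
    intro h
    have he : ∀ e ∈ P.support, (aeval (Fin.cons 1 X : Fin (r + 2) → MvPolynomial (Fin (r + 1)) k)
        (monomial e (coeff e P))) = monomial e.tail (coeff e P) := by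
      intro e _
      rw [aeval_monomial, monomial_eq, Finsupp.prod_fintype _ _ (fun _ => pow_zero _), Fin.prod_univ_succ]
      simp [Finsupp.prod_fintype, Finsupp.tail_apply]
    obtain ⟨e₀, he₀⟩ := support_nonempty.mpr hP.ne_zero
    have h1 := congrArg (coeff e₀.tail) h
    simp only [P1] at h1
    rw [P.as_sum, map_sum, Finset.sum_congr rfl he, coeff_sum, Finset.sum_eq_single e₀, coeff_monomial, if_pos rfl,
      coeff_zero] at h1
    · exact mem_support_iff.mp he₀ h1
    · intro e he' hne
      rw [coeff_monomial, if_neg]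
      intro htail
      apply hne
      have h0 : ∀ f ∈ P.support, f 0 + ∑ i : Fin (r + 1), f i.succ = δ := fun f hf => by
        have h := hh (mem_support_iff.mp hf)
        rw [Finsupp.weight_apply, Finsupp.sum_fintype _ _ (fun _ => by simp), Fin.sum_univ_succ] at h
        simpa using h
      have hts : ∀ i : Fin (r + 1), e i.succ = e₀ i.succ := fun (i : Fin (r + 1)) => by
        have := DFunLike.congr_fun htail i
        simpa [Finsupp.tail_apply] using this
      refine Finsupp.ext fun i => Fin.cases ?_ hts i
      have h2 := h0 e he'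
      have h3 := h0 e₀ he₀
      rw [Finset.sum_congr rfl (fun i _ => hts i)] at h2
      omega
    · exact fun h => absurd he₀ h
  have hP1d : P1.totalDegree ≤ δ := hδ ▸ totalDegree_aeval_le' _ (fun i => Fin.cases (by simp) (fun j => by simp) i) P
  obtain ⟨c, hc⟩ := exists_eval_ne_zero (mul_ne_zero hP1 hlin)
    (((totalDegree_mul _ _).trans (add_le_add hP1d hlin1)).trans_lt hq)
  rw [map_mul, mul_ne_zero_iff] at hc
  refine ⟨c, ?_, fun h => hc.2 ?_⟩
  · intro h
    apply hc.1
    rw [← h]
    have : (eval c).comp (aeval (Fin.cons 1 X) : MvPolynomial (Fin (r + 2)) k →ₐ[k] MvPolynomial (Fin (r + 1)) k).toRingHom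
        = eval (Fin.cons 1 c : Fin (r + 2) → k) := by
      refine MvPolynomial.ringHom_ext (fun a => by simp) fun i => Fin.cases (by simp) (fun j => by simp) i
    exact RingHom.congr_fun this P
  · have h1 := congrArg lam h
    simp only [map_add, map_sum, map_zero, ← Algebra.smul_def, map_smul, smul_eq_mul] at h1
    simp only [lin, map_add, map_sum, map_mul, eval_C, eval_X]
    rw [← h1]
    congr 1
    exact Finset.sum_congr rfl fun i _ => mul_comm _ _

theorem NormFam.step [Finite k] (hx : IsCone k x r) {d : ℝ} (hd : HasDeg k x r d) (hq : d + 1 < Nat.card k)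
    {M : ℕ} (hM : r + 1 ≤ M) {u : Fin (M + 1) → L} (hu : NormFam k x u) :
    ∃ u' : Fin M → L, NormFam k x u' := by
  classical
  haveI := hu.isAlgebraic hx
  obtain ⟨t, hts, htb⟩ := exists_isTranscendenceBasis_subset (R := k) (Set.range u)
  haveI : Finite t := ((Set.finite_range u).subset hts).to_subtype
  have hcard : Nat.card t = r + 1 := by
    have h := htb.cardinalMk_eq_trdeg
    rw [hx.dim] at h
    rw [Nat.card, h, Cardinal.toNat_natCast]
  let et : Fin (r + 1) ≃ t := (Finite.equivFinOfCardEq hcard).symm
  choose p hp using fun i : Fin (r + 1) => hts (et i).2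
  have hp_inj : Function.Injective p := fun a b hab => et.injective (Subtype.ext (by rw [← hp a, ← hp b, hab]))
  obtain ⟨j, hj⟩ : ∃ j, j ∉ Set.range p := by
    by_contra! h
    have h1 := Fintype.card_le_of_surjective p h
    simp only [Fintype.card_fin] at h1
    omega
  let v : Fin (r + 1) → L := fun i => u (p i)
  have hv : AlgebraicIndependent k v := by
    rw [show v = (fun a : t => (a : L)) ∘ et from funext hp]
    exact htb.1.comp et et.injective
  obtain ⟨P, δ, hPirr, hPh, hδ, hker⟩ := hx.exists_relation hd hv (fun i => hu.mem (p i)) (hu.mem j)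
  obtain ⟨c, hc1, hc2⟩ := exists_shear hPirr hPh hker (by
    have : ((δ + 1 : ℕ) : ℝ) < (Nat.card k : ℝ) := by push_cast; linarith
    exact_mod_cast this)
  let c' : Fin (M + 1) → k := fun i => if h : ∃ a, p a = i then c h.choose else 0
  have hc' : ∀ a, c' (p a) = c a := fun a => by
    have h : ∃ b, p b = p a := ⟨a, rfl⟩
    simp only [c', dif_pos h, hp_inj h.choose_spec]
  let u' : Fin M → L := fun i => u (j.succAbove i) - algebraMap k L (c' (j.succAbove i)) * u j
  have hpj : ∀ a, ∃ i, j.succAbove i = p a := fun a => Fin.exists_succAbove_eq (fun h => hj ⟨a, h⟩)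
  choose σ hσ using hpj
  let B := Algebra.adjoin k (Set.range u')
  let F := IntermediateField.adjoin k (Set.range u')
  -- the monic equation
  let g : Fin (r + 2) → Polynomial B := Fin.cons Polynomial.X fun a =>
    Polynomial.C ⟨u' (σ a), Algebra.subset_adjoin ⟨σ a, rfl⟩⟩ + Polynomial.C (algebraMap k B (c a)) * Polynomial.X
  have hg1 : ∀ i, (g i).natDegree ≤ 1 := fun i => Fin.cases (by simp [g]) (fun a => by
    simp only [g, Fin.cons_succ]
    exact (Polynomial.natDegree_add_le _ _).trans (max_le (by simp) ((Polynomial.natDegree_C_mul_le _ _).trans (by simp)))) i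
  have hgev : ∀ i, Polynomial.aeval (u j) (g i) = (Fin.cons (u j) v : Fin (r + 2) → L) i := fun i =>
    Fin.cases (by simp [g]) (fun a => by
      simp only [g, Fin.cons_succ, map_add, map_mul, Polynomial.aeval_C, Polynomial.aeval_X]
      show (u' (σ a) : L) + algebraMap k L (c a) * u j = v a
      simp only [u', hσ, hc', v]
      ring) i
  obtain ⟨hdeg, hcoef⟩ := coeff_aeval_linear g hg1 hPh
  set p₀ : Polynomial B := aeval g P with hp₀
  have hp₀0 : Polynomial.aeval (u j) p₀ = 0 := by
    have h : ((Polynomial.aeval (u j) : Polynomial B →ₐ[B] L).restrictScalars k).comp (aeval g) =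
        aeval (Fin.cons (u j) v : Fin (r + 2) → L) := by
      refine MvPolynomial.algHom_ext fun i => ?_
      simp only [AlgHom.comp_apply, aeval_X, AlgHom.restrictScalars_apply]
      exact hgev i
    have h1 := AlgHom.congr_fun h P
    rw [(hker P).mpr dvd_rfl] at h1
    exact h1
  have hunit : IsUnit (p₀.coeff δ) := by
    rw [hcoef]
    have h : (fun i => (g i).coeff 1) = algebraMap k B ∘ (Fin.cons 1 c : Fin (r + 2) → k) :=
      funext fun i => Fin.cases (by simp [g]) (fun a => by simp [g]) i
    rw [h]
    have h2 : aeval (algebraMap k B ∘ (Fin.cons 1 c : Fin (r + 2) → k)) P =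
        algebraMap k B (eval (Fin.cons 1 c : Fin (r + 2) → k) P) := by
      rw [← aeval_eq_eval, ← Algebra.ofId_apply, ← AlgHom.comp_apply, comp_aeval]
      rfl
    rw [h2]
    exact (isUnit_iff_ne_zero.mpr hc1).map _
  have hint : IsIntegral B (u j) := by
    refine ⟨Polynomial.C (↑hunit.unit⁻¹ : B) * p₀, ?_, ?_⟩
    · refine Polynomial.monic_of_natDegree_le_of_coeff_eq_one δ ((Polynomial.natDegree_C_mul_le _ _).trans hdeg) ?_
      rw [Polynomial.coeff_C_mul]
      exact hunit.val_inv_mul
    · rw [← Polynomial.aeval_def, map_mul, hp₀0, mul_zero]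
  have hsep : IsSeparable F (u j) := by
    let ι : B →+* F := (Subalgebra.inclusion (IntermediateField.algebra_adjoin_le_adjoin k (Set.range u'))).toRingHom
    have hι : ∀ q : Polynomial B, Polynomial.aeval (u j) (q.map ι) = Polynomial.aeval (u j) q := fun q => by
      rw [Polynomial.aeval_def, Polynomial.eval₂_map, Polynomial.aeval_def]
      rfl
    have hder : Polynomial.aeval (u j) (Polynomial.derivative p₀) ≠ 0 := by
      rw [← Polynomial.eval_map_algebraMap, ← Polynomial.derivative_map, hp₀]
      have h : Polynomial.map (algebraMap B L) (aeval g P) =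
          aeval (fun i => (g i).map (algebraMap B L)) P := by
        have h1 : (Polynomial.mapAlgHom (IsScalarTower.toAlgHom k B L)).comp (aeval g) =
            aeval fun i => (g i).map (algebraMap B L) := by
          refine MvPolynomial.algHom_ext fun i => ?_
          simp only [AlgHom.comp_apply, aeval_X]
          rfl
        exact AlgHom.congr_fun h1 P
      rw [h, eval_derivative_aeval, Fin.sum_univ_succ]
      have hpt : (fun i => Polynomial.eval (u j) ((g i).map (algebraMap B L))) = (Fin.cons (u j) v : Fin (r + 2) → L) :=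
        funext fun i => by rw [Polynomial.eval_map_algebraMap, hgev]
      rw [hpt]
      convert hc2 using 2
      · simp [g]
      · refine Finset.sum_congr rfl fun a _ => ?_
        congr 1
        simp [g]
    have hm0 : Polynomial.aeval (u j) (Polynomial.derivative (p₀.map ι)) ≠ 0 := by
      rw [Polynomial.derivative_map, hι]
      exact hder
    have hint' : IsIntegral F (u j) := by
      refine IsAlgebraic.isIntegral ⟨p₀.map ι, fun h => hm0 ?_, by rw [hι, hp₀0]⟩
      rw [h]
      simp
    obtain ⟨q, hq⟩ := minpoly.dvd F (u j) (by rw [hι, hp₀0] : Polynomial.aeval (u j) (p₀.map ι) = 0)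
    rw [hq, Polynomial.derivative_mul, map_add, map_mul, map_mul, minpoly.aeval, zero_mul, add_zero] at hm0
    rw [IsSeparable, Polynomial.separable_iff_derivative_ne_zero (minpoly.irreducible hint')]
    intro h
    exact hm0 (by rw [h]; simp)
  have hgenB : ∀ a ∈ Set.range u, IsIntegral B a := by
    rintro _ ⟨i, rfl⟩
    by_cases hi : i = j
    · subst hi; exact hint
    obtain ⟨i', rfl⟩ := Fin.exists_succAbove_eq hi
    rw [show u (j.succAbove i') = u' i' + algebraMap k L (c' (j.succAbove i')) * u j by simp [u']]
    refine IsIntegral.add ?_ (IsIntegral.mul ?_ hint)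
    · exact isIntegral_algebraMap (x := (⟨u' i', Algebra.subset_adjoin ⟨i', rfl⟩⟩ : B))
    · exact isIntegral_algebraMap (x := algebraMap k B (c' (j.succAbove i')))
  have hgenF : ∀ a ∈ Set.range u, IsSeparable F a := by
    rintro _ ⟨i, rfl⟩
    by_cases hi : i = j
    · subst hi; exact hsep
    obtain ⟨i', rfl⟩ := Fin.exists_succAbove_eq hi
    rw [show u (j.succAbove i') = u' i' + algebraMap k L (c' (j.succAbove i')) * u j by simp [u']]
    rw [← mem_separableClosure_iff]
    refine add_mem ?_ (mul_mem ?_ (mem_separableClosure_iff.mpr hsep))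
    · exact (separableClosure F L).algebraMap_mem (⟨u' i', IntermediateField.subset_adjoin k _ ⟨i', rfl⟩⟩ : F)
    · exact (separableClosure F L).algebraMap_mem (algebraMap k F (c' (j.succAbove i')))
  refine ⟨u', fun i => ?_, fun i => isIntegral_of_generated _ _ hgenB (hu.integral i),
    fun i => isSeparable_of_generated _ _ hgenF (hu.sep i)⟩
  refine Submodule.sub_mem _ (hu.mem _) ?_
  rw [← Algebra.smul_def]
  exact Submodule.smul_mem _ _ (hu.mem j)

/-- Separable normalisation by linear forms over a large finite field. -/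
theorem IsCone.exists_normFam [Finite k] (hx : IsCone k x r) {d : ℝ} (hd : HasDeg k x r d)
    (hq : d + 1 < Nat.card k) : ∃ y : Fin (r + 1) → L, AlgebraicIndependent k y ∧ NormFam k x y := by
  have key : ∀ e M, M = r + 1 + e → (∃ u : Fin M → L, NormFam k x u) → ∃ y : Fin (r + 1) → L, NormFam k x y := by
    intro e
    induction e with
    | zero => rintro M rfl h; exact h
    | succ e ih =>
      rintro M rfl ⟨u, hu⟩
      obtain ⟨u', hu'⟩ := NormFam.step hx hd hq (M := r + 1 + e) (by omega) (u := u) hu
      exact ih _ rfl ⟨u', hu'⟩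
  obtain ⟨e, he⟩ := Nat.exists_eq_add_of_le ((normFam_self (k := k) (x := x)).le hx)
  obtain ⟨y, hy⟩ := key e (n + 1) he ⟨x, normFam_self⟩
  exact ⟨y, NormFam.algebraicIndependent hx hy, hy⟩

end Groth.L03.LWU
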