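import Groth.Agent.L03.LWU.Cone.Basic
import Mathlib.RingTheory.Polynomial.GaussLemma
import Mathlib.RingTheory.Polynomial.UniqueFactorization
import Mathlib.Algebra.MvPolynomial.Equiv
import Mathlib.Algebra.MvPolynomial.NoZeroDivisors
import Mathlib.FieldTheory.Minpoly.IsIntegrallyClosed
import Mathlib.LinearAlgebra.FiniteDimensional.Lemmas

/-!
# The relation between `r + 2` coordinates
-/

set_option autoImplicit false
set_option linter.style.haveILetI false
universe u v

open MvPolynomial Filter

namespace Groth.L03.LWU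

variable {k : Type u} [Field k] {L : Type v} [Field L] [Algebra k L] {n : ℕ} {x : Fin (n + 1) → L} {r : ℕ}

/-- The kernel of an evaluation at `w` and independent `v` is principal. -/
theorem exists_principal {v : Fin (r + 1) → L} (hv : AlgebraicIndependent k v) {w : L}
    (hne : ∃ Q : MvPolynomial (Fin (r + 2)) k, Q ≠ 0 ∧ aeval (Fin.cons w v : Fin (r + 2) → L) Q = 0) :
    ∃ P : MvPolynomial (Fin (r + 2)) k, Irreducible P ∧
      ∀ Q, aeval (Fin.cons w v : Fin (r + 2) → L) Q = 0 ↔ P ∣ Q := by
  classical
  set u : Fin (r + 2) → L := Fin.cons w v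
  let A := MvPolynomial (Fin (r + 1)) k
  let Kf := FractionRing A
  have hinj : Function.Injective (aeval v : A →ₐ[k] L) := algebraicIndependent_iff_injective_aeval.mp hv
  letI : Algebra Kf L := (IsFractionRing.lift hinj : Kf →+* L).toAlgebra
  have hlift : ∀ a : A, algebraMap Kf L (algebraMap A Kf a) = aeval v a := fun a =>
    IsFractionRing.lift_algebraMap hinj a
  let e := finSuccEquiv k (r + 1)
  have heval : ∀ Q, aeval u Q = Polynomial.aeval w ((e Q).map (algebraMap A Kf)) := fun Q => by
    rw [Polynomial.aeval_def, Polynomial.eval₂_map]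
    have : (aeval u : MvPolynomial (Fin (r + 2)) k →ₐ[k] L).toRingHom =
        (Polynomial.eval₂RingHom ((algebraMap Kf L).comp (algebraMap A Kf)) w).comp e.toRingEquiv.toRingHom := by
      refine MvPolynomial.ringHom_ext (fun c => ?_) fun i => ?_
      · have he : e (C c) = Polynomial.C (C c) := by simp [e, finSuccEquiv_apply]
        show aeval u (C c) = Polynomial.eval₂ _ _ (e (C c))
        rw [he, Polynomial.eval₂_C, RingHom.comp_apply, hlift, aeval_C, aeval_C]
      · refine Fin.cases ?_ (fun j => ?_) i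
        · show aeval u (X 0) = Polynomial.eval₂ _ _ (e (X 0))
          simp [e, finSuccEquiv_X_zero, u]
        · show aeval u (X j.succ) = Polynomial.eval₂ _ _ (e (X j.succ))
          rw [finSuccEquiv_X_succ, Polynomial.eval₂_C, RingHom.comp_apply, hlift]
          simp [u]
    exact RingHom.congr_fun this Q
  have hirr : ∀ P : MvPolynomial (Fin (r + 2)) k, Irreducible P → aeval u P = 0 →
      (e P).IsPrimitive ∧ Irreducible ((e P).map (algebraMap A Kf)) := by
    intro P hP hP0
    have hPi : Irreducible (e P) := (MulEquiv.irreducible_iff e.toMulEquiv).mpr hP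
    have hdeg : (e P).natDegree ≠ 0 := by
      intro h
      obtain ⟨a, ha⟩ := Polynomial.natDegree_eq_zero.mp h
      rw [heval, ← ha, Polynomial.map_C, Polynomial.aeval_C, hlift] at hP0
      have : a = 0 := hinj (by rw [hP0, map_zero])
      rw [this, map_zero] at ha
      exact hPi.ne_zero ha.symm
    have hprim := hPi.isPrimitive hdeg
    exact ⟨hprim, hprim.irreducible_iff_irreducible_map_fraction_map.mp hPi⟩
  obtain ⟨Q₀, hQ₀, hQ₀0⟩ := hne
  obtain ⟨P, hP, hP0⟩ : ∃ P, Irreducible P ∧ aeval u P = 0 := by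
    let fs := UniqueFactorizationMonoid.factors Q₀
    obtain ⟨c, hc⟩ := UniqueFactorizationMonoid.factors_prod hQ₀
    have h1 : aeval u fs.prod = 0 := by
      rw [← hc, map_mul] at hQ₀0
      exact (mul_eq_zero_iff_right ((c.isUnit.map (aeval u)).ne_zero)).mp hQ₀0
    rw [map_multiset_prod, Multiset.prod_eq_zero_iff, Multiset.mem_map] at h1
    obtain ⟨P, hP, hP0⟩ := h1
    exact ⟨P, UniqueFactorizationMonoid.irreducible_of_factor P hP, hP0⟩
  obtain ⟨hprim, hPK⟩ := hirr P hP hP0
  refine ⟨P, hP, fun Q => ⟨fun hQ => ?_, fun ⟨R, hR⟩ => by rw [hR, map_mul, hP0, zero_mul]⟩⟩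
  have hwint : IsIntegral Kf w := by
    have : IsAlgebraic Kf w := ⟨(e P).map (algebraMap A Kf), hPK.ne_zero, by rw [← heval, hP0]⟩
    exact this.isIntegral
  have hm : Associated (minpoly Kf w) ((e P).map (algebraMap A Kf)) :=
    (minpoly.irreducible hwint).associated_of_dvd hPK (minpoly.dvd Kf w (by rw [← heval, hP0]))
  have hdvd : (e P).map (algebraMap A Kf) ∣ (e Q).map (algebraMap A Kf) :=
    hm.symm.dvd.trans (minpoly.dvd Kf w (by rw [← heval, hQ]))
  obtain ⟨R, hR⟩ := hprim.dvd_of_fraction_map_dvd_fraction_map hdvd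
  exact ⟨e.symm R, e.injective (by rw [map_mul, AlgEquiv.apply_symm_apply, hR])⟩

theorem finrank_ker_le {P : MvPolynomial (Fin (r + 2)) k} {u : Fin (r + 2) → L} {δ : ℕ}
    (hPh : P.IsHomogeneous δ) (hker : ∀ Q, aeval u Q = 0 ↔ P ∣ Q) (D : ℕ) :
    Module.finrank k (LinearMap.ker ((aeval u : MvPolynomial (Fin (r + 2)) k →ₐ[k] L).toLinearMap.comp
      (homogeneousSubmodule (Fin (r + 2)) k (D + δ)).subtype)) ≤ (D + (r + 1)).choose (r + 1) := by
  classical
  haveI := (finrank_forms k (r + 1) D).1
  haveI := (finrank_forms k (r + 1) (D + δ)).1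
  let μ : homogeneousSubmodule (Fin (r + 2)) k D →ₗ[k] homogeneousSubmodule (Fin (r + 2)) k (D + δ) :=
    LinearMap.codRestrict _ ((LinearMap.mulLeft k P).comp (Submodule.subtype _)) fun R => by
      show P * R.1 ∈ _
      rw [mem_homogeneousSubmodule, add_comm D δ]
      exact hPh.mul R.2
  have hle : LinearMap.ker ((aeval u : MvPolynomial (Fin (r + 2)) k →ₐ[k] L).toLinearMap.comp
      (homogeneousSubmodule (Fin (r + 2)) k (D + δ)).subtype) ≤ LinearMap.range μ := by
    intro Q hQ
    obtain ⟨R, hR⟩ := (hker Q.1).mp hQ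
    refine ⟨⟨homogeneousComponent D R, homogeneousComponent_isHomogeneous D R⟩, Subtype.ext ?_⟩
    show P * homogeneousComponent D R = Q.1
    by_cases hP0 : P = 0
    · rw [hR, hP0, zero_mul, zero_mul]
    have h1 := homogeneousComponent_of_mem (n := D + δ) Q.2 (m := D + δ)
    rw [if_pos rfl, hR] at h1
    rw [hR, ← h1]
    conv_rhs => rw [← sum_homogeneousComponent R, Finset.mul_sum, map_sum]
    rw [Finset.sum_eq_single D]
    · rw [homogeneousComponent_of_mem (hPh.mul (homogeneousComponent_isHomogeneous D R)), if_pos (add_comm D δ)]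
    · intro E _ hE
      rw [homogeneousComponent_of_mem (hPh.mul (homogeneousComponent_isHomogeneous E R)), if_neg (by omega)]
    · intro hD
      rw [Finset.mem_range, not_lt] at hD
      rw [homogeneousComponent_eq_zero D R (by omega), mul_zero, map_zero]
  refine (Submodule.finrank_mono hle).trans ((LinearMap.finrank_range_le μ).trans ?_)
  rw [(finrank_forms k (r + 1) D).2]

theorem le_choose_sub (a δ : ℕ) :
    δ * (a + r).choose r + (a + (r + 1)).choose (r + 1) ≤ (a + δ + (r + 1)).choose (r + 1) := by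
  induction δ with
  | zero => simp
  | succ j ih =>
    rw [show a + (j + 1) + (r + 1) = (a + j + (r + 1)) + 1 by omega, Nat.choose_succ_succ']
    have h : (a + r).choose r ≤ (a + j + (r + 1)).choose r := Nat.choose_le_choose r (by omega)
    rw [add_mul, one_mul]
    omega

/-- The relation between `r + 2` coordinates is a form of degree at most the degree. -/
theorem IsCone.exists_relation (hx : IsCone k x r) {d : ℝ} (hd : HasDeg k x r d) {v : Fin (r + 1) → L}
    (hv : AlgebraicIndependent k v) {w : L} (hvp : ∀ i, v i ∈ piece k x 1) (hw : w ∈ piece k x 1) :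
    ∃ (P : MvPolynomial (Fin (r + 2)) k) (δ : ℕ), Irreducible P ∧ P.IsHomogeneous δ ∧ (δ : ℝ) ≤ d ∧
      ∀ Q, aeval (Fin.cons w v : Fin (r + 2) → L) Q = 0 ↔ P ∣ Q := by
  classical
  set u : Fin (r + 2) → L := Fin.cons w v
  have hu : ∀ i, u i ∈ piece k x 1 := fun i => Fin.cases hw hvp i
  have hne : ∃ Q : MvPolynomial (Fin (r + 2)) k, Q ≠ 0 ∧ aeval u Q = 0 := by
    have hdep : ¬ AlgebraicIndependent k u := by
      intro h
      have h1 := h.lift_cardinalMk_le_trdeg
      rw [hx.dim, Cardinal.mk_fin, Cardinal.lift_natCast, Cardinal.lift_natCast] at h1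
      exact absurd (Nat.cast_le.mp h1) (by omega)
    rw [algebraicIndependent_iff] at hdep
    push Not at hdep
    obtain ⟨Q, hQ, hQ0⟩ := hdep
    exact ⟨Q, hQ0, hQ⟩
  obtain ⟨P, hP, hker⟩ := exists_principal hv hne
  have hPh : P.IsHomogeneous P.totalDegree := by
    have key : ∀ D, homogeneousComponent D P ≠ 0 → D = P.totalDegree := by
      intro D hD
      have h1 := (hker _).mp (hx.component_eq_zero hu ((hker P).mpr dvd_rfl) D)
      have h2 := totalDegree_le_of_dvd_of_isDomain h1 hD
      rw [(homogeneousComponent_isHomogeneous D P).totalDegree hD] at h2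
      refine le_antisymm ?_ h2
      by_contra h
      exact hD (homogeneousComponent_eq_zero D P (by omega))
    have hsum := sum_homogeneousComponent P
    rw [Finset.sum_eq_single P.totalDegree (fun D _ hD => by_contra fun h => hD (key D h))
      (fun h => absurd (Finset.mem_range.mpr (Nat.lt_succ_self _)) h)] at hsum
    have h := homogeneousComponent_isHomogeneous P.totalDegree P
    rwa [hsum] at h
  refine ⟨P, P.totalDegree, hP, hPh, ?_, hker⟩
  set δ := P.totalDegree
  refine hd.le_of_choose_le (a := δ) (Eventually.of_forall fun D => ?_)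
  haveI := (finrank_forms k (r + 1) (D + δ)).1
  let φ := (aeval u : MvPolynomial (Fin (r + 2)) k →ₐ[k] L).toLinearMap.comp
      (homogeneousSubmodule (Fin (r + 2)) k (D + δ)).subtype
  have hrk : Module.finrank k (LinearMap.range φ) ≤ coneDim k x (D + δ) :=
    Submodule.finrank_mono (by
      rintro _ ⟨Q, rfl⟩
      exact aeval_forms_mem_piece_one hu Q.2)
  have hsum := LinearMap.finrank_range_add_finrank_ker φ
  rw [(finrank_forms k (r + 1) (D + δ)).2] at hsum
  have hk := finrank_ker_le hPh hker D
  change Module.finrank k (LinearMap.ker φ) ≤ _ at hk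
  have hc := le_choose_sub (r := r) D δ
  have : δ * (D + r).choose r ≤ coneDim k x (D + δ) := by omega
  exact_mod_cast this

end Groth.L03.LWU
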