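import Groth.Agent.L03.LWU.Cone.Count
import Groth.Agent.L03.LWU.Cone.Degree
import Mathlib.FieldTheory.AlgebraicClosure
import Mathlib.FieldTheory.Finite.GaloisField
import Mathlib.FieldTheory.Galois.Basic
import Mathlib.RingTheory.AlgebraicIndependent.Transcendental

/-!
# Separating the new constants
-/

set_option autoImplicit false
set_option linter.style.haveILetI false
universe u

open MvPolynomial Filter
open scoped Topology

namespace Groth.L03.LWU

variable {k : Type u} [Field k] [Finite k] {L : Type u} [Field L] [Algebra k L] {n : ℕ} {x : Fin (n + 1) → L} {r : ℕ}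

theorem homogeneousComponent_mul_of_isHomogeneous {σ R : Type*} [CommRing R] {A : MvPolynomial σ R} {c : ℕ}
    (hA : A.IsHomogeneous c) (P : MvPolynomial σ R) (D : ℕ) :
    homogeneousComponent (D + c) (A * P) = A * homogeneousComponent D P := by
  conv_lhs => rw [← sum_homogeneousComponent P, Finset.mul_sum, map_sum]
  rw [Finset.sum_eq_single D]
  · rw [homogeneousComponent_of_mem (hA.mul (homogeneousComponent_isHomogeneous D P)), if_pos (add_comm D c)]
  · intro E _ hE
    rw [homogeneousComponent_of_mem (hA.mul (homogeneousComponent_isHomogeneous E P)), if_neg (by omega)]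
  · intro h
    rw [Finset.mem_range, not_lt] at h
    rw [homogeneousComponent_eq_zero D P (by omega), mul_zero, map_zero]

/-- Extending the constants inside the field. -/
theorem IsCone.restrict (hx : IsCone k x r) (F : IntermediateField k L) [FiniteDimensional k F] {d : ℝ}
    (hd : HasDeg k x r d) : IsCone F x r ∧ HasDeg F x r (d / Module.finrank k F) := by
  classical
  let β := Module.finBasis k F
  obtain ⟨c, b, hb, hb0, hβb⟩ := hx.exists_common_ratio (fun i => (β i : L))
    (fun i => ((Algebra.IsIntegral.isIntegral (β i)).map F.val).isAlgebraic)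
  choose A hA hAv using fun i => mem_piece.mp (hβb i)
  have hFb : ∀ a : F, (a : L) * b ∈ piece k x c := fun a => by
    rw [← β.sum_repr a, IntermediateField.coe_sum, Finset.sum_mul]
    refine Submodule.sum_mem _ fun i _ => ?_
    rw [IntermediateField.coe_smul, smul_mul_assoc]
    exact Submodule.smul_mem _ _ (hβb i)
  have hev : ∀ Q : MvPolynomial (Fin (n + 1)) k, aeval x (map (algebraMap k F) Q) = aeval x Q := fun Q =>
    aeval_map_algebraMap F x Q
  have hcoord : ∀ P : MvPolynomial (Fin (n + 1)) F, ∃ q : Fin (Module.finrank k F) → MvPolynomial (Fin (n + 1)) k,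
      P = ∑ i, C (β i) * map (algebraMap k F) (q i) ∧ aeval x P = ∑ i, (β i : L) * aeval x (q i) := fun P => by
    obtain ⟨q, hq⟩ := exists_coord' β P
    refine ⟨q, hq, ?_⟩
    conv_lhs => rw [hq, map_sum]
    exact Finset.sum_congr rfl fun i _ => by rw [map_mul, aeval_C, hev]; rfl
  have hcomp : ∀ (q : Fin (Module.finrank k F) → MvPolynomial (Fin (n + 1)) k) (D : ℕ),
      homogeneousComponent D (∑ i, C (β i) * map (algebraMap k F) (q i)) =
        ∑ i, C (β i) * map (algebraMap k F) (homogeneousComponent D (q i)) := fun q D => by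
    rw [map_sum]
    refine Finset.sum_congr rfl fun i _ => ?_
    ext e
    simp only [coeff_homogeneousComponent, coeff_C_mul, coeff_map]
    split_ifs <;> simp
  have hgen : IntermediateField.adjoin F (Set.range x) = ⊤ := by
    rw [eq_top_iff]
    intro z _
    have hle : IntermediateField.adjoin k (Set.range x) ≤ (IntermediateField.adjoin F (Set.range x)).restrictScalars k :=
      IntermediateField.adjoin_le_iff.mpr fun _ h => IntermediateField.subset_adjoin F _ h
    exact hle (by rw [hx.gen]; trivial)
  have htr : Algebra.trdeg F L = (r + 1 : ℕ) := by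
    have h := trdeg_add_eq k F (A := L)
    rw [trdeg_eq_zero, zero_add, hx.dim] at h
    exact h
  refine ⟨⟨fun P hP D => ?_, hgen, htr⟩, ?_⟩
  · obtain ⟨q, hq, hqv⟩ := hcoord P
    have h0 : aeval x (∑ i, A i * q i) = 0 := by
      simp only [map_sum, map_mul, hAv]
      rw [show ∑ i, (β i : L) * b * aeval x (q i) = b * ∑ i, (β i : L) * aeval x (q i) by
        rw [Finset.mul_sum]; exact Finset.sum_congr rfl fun i _ => by ring, ← hqv, hP, mul_zero]
    have h1 := hx.homog _ h0 (D + c)
    rw [map_sum, Finset.sum_congr rfl (fun i _ => homogeneousComponent_mul_of_isHomogeneous (hA i) (q i) D), map_sum] at h1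
    simp only [map_mul, hAv] at h1
    rw [hq, hcomp, map_sum]
    refine (mul_eq_zero_iff_left hb0).mp ?_
    rw [Finset.mul_sum, ← h1]
    refine Finset.sum_congr rfl fun i _ => ?_
    rw [map_mul, aeval_C, hev]
    show b * ((β i : L) * _) = _
    ring
  -- the dimensions of the pieces
  let m := Module.finrank k F
  have hsub : ∀ D, ∀ z ∈ piece F x D, b * z ∈ piece k x (D + c) := fun D z hz => by
    obtain ⟨P, hP, rfl⟩ := mem_piece.mp hz
    obtain ⟨q, hq, -⟩ := hcoord P
    have hP' : P = ∑ i, C (β i) * map (algebraMap k F) (homogeneousComponent D (q i)) := by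
      rw [← hcomp, ← hq, homogeneousComponent_of_mem hP, if_pos rfl]
    rw [hP', map_sum, Finset.mul_sum]
    refine Submodule.sum_mem _ fun i _ => ?_
    rw [map_mul, aeval_C, hev, show algebraMap F L (β i) = (β i : L) from rfl, ← mul_assoc, mul_comm b, add_comm D c]
    exact mul_mem_piece (hFb _) (aeval_mem_piece (homogeneousComponent_isHomogeneous D _))
  have htow : ∀ D, IsScalarTower k F ((piece F x D).restrictScalars k) := fun D =>
    ⟨fun a b z => Subtype.ext (smul_assoc a b (z : L))⟩
  have hFrank : ∀ D, Module.finrank k ((piece F x D).restrictScalars k) = m * coneDim F x D := fun D => by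
    haveI := htow D
    rw [← Module.finrank_mul_finrank k F ((piece F x D).restrictScalars k)]
    rfl
  have hfin : ∀ D, Module.Finite k ((piece F x D).restrictScalars k) := fun D => by
    haveI := htow D
    haveI : Module.Finite F ((piece F x D).restrictScalars k) := inferInstanceAs (Module.Finite F (piece F x D))
    exact Module.Finite.trans F _
  have hlow : ∀ D, coneDim k x D ≤ m * coneDim F x D := fun D => by
    haveI := hfin D
    rw [← hFrank]
    refine Submodule.finrank_mono fun z hz => ?_
    obtain ⟨P, hP, rfl⟩ := mem_piece.mp hz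
    exact mem_piece.mpr ⟨map (algebraMap k F) P, hP.map _, hev P⟩
  have hup : ∀ D, m * coneDim F x D ≤ coneDim k x (D + c) := fun D => by
    rw [← hFrank]
    let ψ : (piece F x D).restrictScalars k →ₗ[k] piece k x (D + c) :=
      LinearMap.codRestrict _ ((LinearMap.mulLeft k b).comp (Submodule.subtype _)) fun z => hsub D z.1 z.2
    exact LinearMap.finrank_le_finrank_of_injective (f := ψ) fun a a' h =>
      Subtype.ext (mul_left_cancel₀ hb0 (congrArg Subtype.val h :))
  have hm : (0 : ℝ) < m := Nat.cast_pos.mpr Module.finrank_pos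
  have h1 : Tendsto (fun D : ℕ => (coneDim k x D : ℝ) / (D : ℝ) ^ r / m) atTop (𝓝 (d / m / r.factorial)) := by
    rw [div_right_comm]
    exact hd.div_const _
  have h2 : Tendsto (fun D : ℕ => (coneDim k x (D + c) : ℝ) / (D : ℝ) ^ r / m) atTop (𝓝 (d / m / r.factorial)) := by
    have ha := hd.comp (tendsto_add_atTop_nat c)
    have hb := ((tendsto_const_nhds (x := (1 : ℝ))).add (tendsto_const_div_atTop_nhds_zero_nat (c : ℝ))).pow r
    rw [add_zero, one_pow] at hb
    have hab := ha.mul hb
    rw [mul_one] at hab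
    rw [div_right_comm]
    refine (hab.congr' ?_).div_const _
    filter_upwards [eventually_ge_atTop 1] with D hD
    have : (D : ℝ) ≠ 0 := Nat.cast_ne_zero.mpr (by omega)
    have : ((D : ℝ) + c) ≠ 0 := by positivity
    simp only [Function.comp_apply]
    push_cast
    rw [show (1 : ℝ) + c / D = ((D : ℝ) + c) / D by field_simp, div_pow]
    field_simp
  refine tendsto_of_tendsto_of_tendsto_of_le_of_le h1 h2 (fun D => ?_) fun D => ?_
  · rw [div_right_comm]
    refine div_le_div_of_nonneg_right ?_ (by positivity)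
    rw [div_le_iff₀ hm, mul_comm]
    exact_mod_cast hlow D
  · rw [div_right_comm]
    refine div_le_div_of_nonneg_right ?_ (by positivity)
    rw [le_div_iff₀ hm, mul_comm]
    exact_mod_cast hup D

/-- The constants of a cone form a finite field. -/
theorem IsCone.finite_constants (hx : IsCone k x r) {d : ℝ} (hd : HasDeg k x r d) :
    FiniteDimensional k (algebraicClosure k L) := by
  classical
  have hle : ∀ F : IntermediateField k L, FiniteDimensional k F → (Module.finrank k F : ℝ) ≤ d := fun F hF => by
    haveI := hF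
    obtain ⟨hF', hdF⟩ := hx.restrict F hd
    have h := hF'.one_le_deg hdF
    rwa [le_div_iff₀ (Nat.cast_pos.mpr Module.finrank_pos), one_mul] at h
  let P : ℕ → Prop := fun j => ∃ F : IntermediateField k L, FiniteDimensional k F ∧ Module.finrank k F = j
  obtain ⟨N, hN⟩ := exists_nat_ge d
  have hP1 : P 1 := ⟨⊥, inferInstance, IntermediateField.finrank_bot⟩
  have hN1 : 1 ≤ N := by
    have h := (hx.one_le_deg hd).trans hN
    exact_mod_cast h
  set j := Nat.findGreatest P N
  obtain ⟨F, hF, hFj⟩ : P j := Nat.findGreatest_spec hN1 hP1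
  haveI := hF
  have hmax : algebraicClosure k L ≤ F := by
    intro a ha
    have hai : IsIntegral k a := mem_algebraicClosure_iff'.mp ha
    haveI := IntermediateField.adjoin.finiteDimensional hai
    let G := F ⊔ IntermediateField.adjoin k ({a} : Set L)
    haveI : FiniteDimensional k G := inferInstanceAs (FiniteDimensional k ↥(F ⊔ IntermediateField.adjoin k ({a} : Set L)))
    have hG : Module.finrank k G ≤ j := Nat.le_findGreatest (by exact_mod_cast (hle G inferInstance).trans hN)
      ⟨G, inferInstance, rfl⟩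
    have hFG : F = G := IntermediateField.eq_of_le_of_finrank_le le_sup_left (hG.trans hFj.ge)
    rw [hFG]
    exact (le_sup_right : IntermediateField.adjoin k ({a} : Set L) ≤ G) (IntermediateField.mem_adjoin_simple_self k a)
  exact FiniteDimensional.of_injective (IntermediateField.inclusion hmax).toLinearMap
    (IntermediateField.inclusion hmax).injective

/-- Over the field of constants the cone has no new constants and the degree is divided. -/
theorem IsCone.over_constants (hx : IsCone k x r) {d : ℝ} (hd : HasDeg k x r d) :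
    (∀ a : L, IsAlgebraic (algebraicClosure k L) a → a ∈ Set.range (algebraMap (algebraicClosure k L) L)) ∧
      IsCone (algebraicClosure k L) x r ∧
      ∃ d1 : ℕ, 1 ≤ d1 ∧ d = Module.finrank k (algebraicClosure k L) * d1 ∧
        HasDeg (algebraicClosure k L) x r d1 := by
  haveI := hx.finite_constants hd
  obtain ⟨hF, hdF⟩ := hx.restrict (algebraicClosure k L) hd
  have hM : ∀ a : L, IsAlgebraic (algebraicClosure k L) a → a ∈ Set.range (algebraMap (algebraicClosure k L) L) :=
    fun a ha => ⟨⟨a, mem_algebraicClosure_iff'.mpr (isIntegral_trans (R := k) a ha.isIntegral)⟩, rfl⟩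
  haveI : Finite (algebraicClosure k L) := Module.finite_of_finite k
  obtain ⟨e, he⟩ := hF.exists_nat_deg hM hdF
  have hm : (0 : ℝ) < Module.finrank k (algebraicClosure k L) := Nat.cast_pos.mpr Module.finrank_pos
  refine ⟨hM, hF, e, ?_, ?_, he ▸ hdF⟩
  · have h := hF.one_le_deg hdF
    rw [he] at h
    exact_mod_cast h
  · rw [← he, mul_div_cancel₀ _ hm.ne']

/-- The points of the cone over the constants, seen through `σ`. -/
abbrev ViaPts (F : IntermediateField k L) (x : Fin (n + 1) → L) {k' : Type u} [Field k'] (σ : F →+* k') : Type u :=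
  {v : Fin (n + 1) → k' // ∀ P : MvPolynomial (Fin (n + 1)) F, aeval x P = 0 → eval₂ σ v P = 0}

omit [Finite k] in
theorem via_mem {F : IntermediateField k L} {k' : Type u} [Field k'] [Algebra k k'] (σ : F →ₐ[k] k')
    (v : ViaPts F x (σ : F →+* k')) : ∀ P : MvPolynomial (Fin (n + 1)) k, aeval x P = 0 → aeval v.1 P = 0 := by
  intro P hP
  have h := v.2 (map (algebraMap k F) P) (by rw [aeval_map_algebraMap, hP])
  rw [eval₂_map, show (σ : F →+* k').comp (algebraMap k F) = algebraMap k k' from σ.comp_algebraMap] at h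
  exact h

/-- Every point lies on one of the conjugates. -/
theorem exists_via (hx : IsCone k x r) (F : IntermediateField k L) [FiniteDimensional k F] {k' : Type u} [Field k']
    [Algebra k k'] (σ₀ : F →ₐ[k] k') (v : Fin (n + 1) → k')
    (hv : ∀ P : MvPolynomial (Fin (n + 1)) k, aeval x P = 0 → aeval v P = 0) :
    ∃ σ : F →ₐ[k] k', ∀ P : MvPolynomial (Fin (n + 1)) F, aeval x P = 0 → eval₂ (σ : F →+* k') v P = 0 := by
  classical
  by_contra! hne
  choose Pw hPw hPw' using hne
  haveI : Finite F := Module.finite_of_finite k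
  haveI : Fintype (F →ₐ[k] F) := inferInstance
  let idx := F ≃ₐ[k] F
  let W : idx → MvPolynomial (Fin (n + 1)) F := fun τ => Pw (σ₀.comp (τ : F →ₐ[k] F))
  let eτ : idx ≃ Fin (Fintype.card idx) := Fintype.equivFin idx
  let Pt : MvPolynomial (Option (Fin (n + 1))) F := ∑ τ : idx, X none ^ (eτ τ : ℕ) * rename some (W τ)
  let N : MvPolynomial (Option (Fin (n + 1))) F := ∏ τ : idx, map (τ : F →+* F) Pt
  have hfix : ∀ e, coeff e N ∈ Set.range (algebraMap k F) := fun e => by
    rw [IsGalois.mem_range_algebraMap_iff_fixed]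
    intro τ
    have hN : map (τ : F →+* F) N = N := by
      simp only [N, map_prod, MvPolynomial.map_map]
      refine Fintype.prod_equiv (Equiv.mulLeft τ) _ _ fun ρ => ?_
      rfl
    conv_rhs => rw [← hN]
    rw [coeff_map]
    rfl
  have hN : N ∈ (map (algebraMap k F) : MvPolynomial (Option (Fin (n + 1))) k →+* _).range :=
    mem_range_map_iff_coeffs_subset.mpr (fun c hc => by
      obtain ⟨e, -, rfl⟩ := mem_coeffs_iff.mp hc
      exact hfix e)
  obtain ⟨N₀, hN₀⟩ := hN
  have hP0 : ∀ τ, aeval x (W τ) = 0 := fun τ => hPw _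
  let xt : Option (Fin (n + 1)) → Polynomial L := fun o => o.elim Polynomial.X fun i => Polynomial.C (x i)
  have hN0 : aeval xt N₀ = 0 := by
    have h : aeval xt N₀ = aeval xt (map (algebraMap k F) N₀) := (aeval_map_algebraMap F xt N₀).symm
    rw [h, hN₀, map_prod]
    refine Finset.prod_eq_zero (Finset.mem_univ (1 : idx)) ?_
    rw [show map ((1 : idx) : F →+* F) Pt = Pt from map_id Pt]
    simp only [Pt, map_sum, map_mul, map_pow, aeval_rename]
    refine Finset.sum_eq_zero fun τ _ => ?_
    have h2 : aeval (xt ∘ some) (W τ) = Polynomial.C (aeval x (W τ)) := by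
      rw [show (Polynomial.C (aeval x (W τ)) : Polynomial L) =
        (IsScalarTower.toAlgHom F L (Polynomial L)) (aeval x (W τ)) from rfl, ← AlgHom.comp_apply, comp_aeval]
      rfl
    rw [h2, hP0, map_zero, mul_zero]
  -- every coefficient in the new variable is a relation
  let op := optionEquivLeft k (Fin (n + 1))
  have hsplit : ∀ {A : Type u} [CommRing A] [Algebra k A] (w : Fin (n + 1) → A),
      aeval (fun o : Option (Fin (n + 1)) => o.elim Polynomial.X fun i => Polynomial.C (w i)) N₀ =
        (op N₀).map (aeval w).toRingHom := by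
    intro A _ _ w
    have h : (aeval fun o : Option (Fin (n + 1)) => o.elim Polynomial.X fun i => Polynomial.C (w i)) =
        ((Polynomial.mapAlgHom (aeval w)).comp (op : MvPolynomial (Option (Fin (n + 1))) k →ₐ[k] _)) := by
      refine MvPolynomial.algHom_ext fun o => ?_
      rcases o with _ | i <;> simp [op]
    rw [h]
    rfl
  have hrel : ∀ j, aeval x ((op N₀).coeff j) = 0 := fun j => by
    have h := congrArg (fun p => Polynomial.coeff p j) ((hsplit x).symm.trans hN0)
    simpa [Polynomial.coeff_map] using h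
  let vt : Option (Fin (n + 1)) → Polynomial k' := fun o => o.elim Polynomial.X fun i => Polynomial.C (v i)
  have hv0 : aeval vt N₀ = 0 := by
    rw [hsplit v]
    refine Polynomial.ext fun j => ?_
    rw [Polynomial.coeff_map, Polynomial.coeff_zero]
    exact hv _ (hrel j)
  let ρ : F →+* Polynomial k' := Polynomial.C.comp (σ₀ : F →+* k')
  have hv1 : eval₂ ρ vt N = 0 := by
    rw [← hN₀, eval₂_map, ← hv0]
    show eval₂ _ vt N₀ = eval₂ (algebraMap k (Polynomial k')) vt N₀
    congr 1
    refine RingHom.ext fun c => ?_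
    show Polynomial.C (σ₀ (algebraMap k F c)) = algebraMap k (Polynomial k') c
    rw [σ₀.commutes]
    rfl
  obtain ⟨τ, -, hτ⟩ := Finset.prod_eq_zero_iff.mp (by rw [← map_prod (eval₂Hom ρ vt)]; exact hv1 :
    ∏ τ : idx, eval₂Hom ρ vt (map (τ : F →+* F) Pt) = 0)
  have hcoef := congrArg (fun p => Polynomial.coeff p (eτ τ : ℕ)) hτ
  rw [coe_eval₂Hom, eval₂_map] at hcoef
  simp only [Pt, eval₂_sum, eval₂_mul, eval₂_pow, eval₂_X, eval₂_rename, Polynomial.finsetSum_coeff] at hcoef
  have hterm : ∀ τ' : idx, eval₂ (ρ.comp (τ : F →+* F)) (vt ∘ some) (W τ') =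
      Polynomial.C (eval₂ ((σ₀.comp (τ : F →ₐ[k] F) : F →ₐ[k] k') : F →+* k') v (W τ')) := fun τ' => by
    rw [eval₂_comp_left Polynomial.C]
    rfl
  rw [Finset.sum_eq_single τ] at hcoef
  · simp only [hterm] at hcoef
    rw [show vt none = Polynomial.X from rfl, mul_comm, Polynomial.coeff_C_mul_X_pow, if_pos rfl,
      Polynomial.coeff_zero] at hcoef
    exact hPw' _ hcoef
  · intro τ' _ hτ'
    simp only [hterm]
    rw [show vt none = Polynomial.X from rfl, mul_comm, Polynomial.coeff_C_mul_X_pow, if_neg]
    exact fun h => hτ' (eτ.injective (Fin.ext h.symm))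
  · exact fun h => absurd (Finset.mem_univ τ) h

omit [Finite k] in
/-- Two conjugates meet where the denominators vanish. -/
theorem via_separated {F : IntermediateField k L} {k' : Type u} [Field k'] [Algebra k k'] (σ σ' : F →ₐ[k] k')
    (v : Fin (n + 1) → k') (hv : ∀ P : MvPolynomial (Fin (n + 1)) F, aeval x P = 0 → eval₂ (σ : F →+* k') v P = 0)
    (hv' : ∀ P : MvPolynomial (Fin (n + 1)) F, aeval x P = 0 → eval₂ (σ' : F →+* k') v P = 0) {α : F}
    (hα : σ α ≠ σ' α) {A B : MvPolynomial (Fin (n + 1)) k} (hAB : (α : L) * aeval x B = aeval x A) :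
    aeval v B = 0 := by
  let R : MvPolynomial (Fin (n + 1)) F := C α * map (algebraMap k F) B - map (algebraMap k F) A
  have hR : aeval x R = 0 := by
    simp only [R, map_sub, map_mul, aeval_C, aeval_map_algebraMap]
    rw [show algebraMap F L α = (α : L) from rfl, hAB, sub_self]
  have key : ∀ ρ : F →ₐ[k] k', eval₂ (ρ : F →+* k') v R = ρ α * aeval v B - aeval v A := fun ρ => by
    simp only [R, eval₂_sub, eval₂_mul, eval₂_C, eval₂_map]
    rw [show (ρ : F →+* k').comp (algebraMap k F) = algebraMap k k' from ρ.comp_algebraMap]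
    rfl
  have h1 := hv R hR
  have h2 := hv' R hR
  rw [key] at h1 h2
  have h3 : (σ α - σ' α) * aeval v B = 0 := by linear_combination h1 - h2
  exact (mul_eq_zero.mp h3).resolve_left (sub_ne_zero.mpr hα)

omit [Finite k] in
theorem via_zero (F : IntermediateField k L) (hF : IsCone F x r) {k' : Type u} [Field k'] (σ : F →+* k') :
    ∀ P : MvPolynomial (Fin (n + 1)) F, aeval x P = 0 → eval₂ σ (0 : Fin (n + 1) → k') P = 0 := by
  intro P hP
  have h := hF.homog P hP 0
  rw [homogeneousComponent_zero, aeval_C] at h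
  rw [show eval₂ σ (0 : Fin (n + 1) → k') P = σ (constantCoeff P) from eval₂_zero_apply σ P, constantCoeff_eq]
  rw [(map_eq_zero _).mp h, map_zero]

theorem via_estimate (n r D0 : ℕ) : ∃ A : ℝ, 0 ≤ A ∧ ∀ {k : Type u} [Field k] [Finite k] {L : Type u} [Field L]
    [Algebra k L] {x : Fin (n + 1) → L} (F : IntermediateField k L) [FiniteDimensional k F] {d1 : ℕ},
    IsCone F x r → (∀ a : L, IsAlgebraic F a → a ∈ Set.range (algebraMap F L)) → HasDeg F x r d1 → 1 ≤ d1 → d1 ≤ D0 →
    ∀ {k' : Type u} [Field k'] [Finite k'] (σ : F →+* k'),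
      |(Nat.card (ViaPts F x σ) : ℝ) - (Nat.card k' : ℝ) ^ (r + 1)| ≤
        (Nat.card k' : ℝ) ^ r * (((d1 : ℝ) - 1) * ((d1 : ℝ) - 2) * Real.sqrt (Nat.card k') + A) := by
  obtain ⟨A, hA, h⟩ := cone_main.{u} n r D0
  refine ⟨A, hA, fun {k} _ _ {L} _ _ {x} F _ {d1} hF hM hd hd1 hD0 {k'} _ _ σ => ?_⟩
  letI : Algebra F k' := σ.toAlgebra
  haveI : Finite F := Module.finite_of_finite k
  obtain ⟨L', _, _, x', hx', hM', hdim, hpts, -⟩ := exists_baseChange hF hM k'
  have hd' : HasDeg k' x' r d1 := by
    unfold HasDeg at hd ⊢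
    simp only [hdim]
    exact hd
  obtain ⟨e, he1, hed, he⟩ := h hx' hd' (by exact_mod_cast hD0) (by exact_mod_cast hd1) hM'
  have hcard : Nat.card (ViaPts F x σ) = Nat.card (ConePts k' x' k') :=
    Nat.card_congr (Equiv.subtypeEquivRight fun v => (hpts v).symm)
  rw [hcard]
  refine he.trans (mul_le_mul_of_nonneg_left (add_le_add (mul_le_mul_of_nonneg_right ?_ (Real.sqrt_nonneg _)) le_rfl)
    (by positivity))
  have hed' : e ≤ d1 := by exact_mod_cast hed
  rcases Nat.lt_or_ge d1 2 with h2 | h2
  · obtain rfl : d1 = 1 := by omega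
    obtain rfl : e = 1 := by omega
    exact le_rfl
  have hd2 : (2 : ℝ) ≤ d1 := by exact_mod_cast h2
  rcases Nat.lt_or_ge e 2 with he2 | he2
  · obtain rfl : e = 1 := by omega
    push_cast
    nlinarith
  have he2' : (2 : ℝ) ≤ e := by exact_mod_cast he2
  have hed'' : (e : ℝ) ≤ d1 := by exact_mod_cast hed'
  nlinarith

theorem via_low (n r D0 c : ℕ) : ∃ A : ℝ, 0 ≤ A ∧ ∀ {k : Type u} [Field k] [Finite k] {L : Type u} [Field L]
    [Algebra k L] {x : Fin (n + 1) → L} (F : IntermediateField k L) [FiniteDimensional k F] {d1 : ℕ},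
    IsCone F x r → (∀ a : L, IsAlgebraic F a → a ∈ Set.range (algebraMap F L)) → HasDeg F x r d1 → d1 ≤ D0 →
    ∀ {k' : Type u} [Field k'] [Algebra k k'] [Finite k'] (σ : F →ₐ[k] k') (S : MvPolynomial (Fin (n + 1)) k),
      S.IsHomogeneous c → aeval x S ≠ 0 →
      (Nat.card {v : ViaPts F x (σ : F →+* k') // aeval v.1 S = 0} : ℝ) ≤ A * (Nat.card k' : ℝ) ^ r := by
  obtain ⟨A, hA, h⟩ := cone_low.{u} n r D0 c
  refine ⟨A, hA, fun {k} _ _ {L} _ _ {x} F _ {d1} hF hM hd hD0 {k'} _ _ _ σ S hS hS0 => ?_⟩
  letI : Algebra F k' := (σ : F →+* k').toAlgebra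
  haveI : Finite F := Module.finite_of_finite k
  haveI : IsScalarTower k F k' := IsScalarTower.of_algebraMap_eq fun a => (σ.commutes a).symm
  obtain ⟨L', _, _, x', hx', -, hdim, hpts, hne⟩ := exists_baseChange hF hM k'
  have hd' : HasDeg k' x' r d1 := by
    unfold HasDeg at hd ⊢
    simp only [hdim]
    exact hd
  have hS' : (map (algebraMap F k') (map (algebraMap k F) S)).IsHomogeneous c := (hS.map _).map _
  have h1 := h hx' hd' (by exact_mod_cast hD0) _ hS' (hne _ (by rw [aeval_map_algebraMap]; exact hS0))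
  refine le_of_eq_of_le ?_ h1
  rw [Nat.cast_inj]
  refine Nat.card_congr ((Equiv.subtypeEquivRight fun v => (hpts v).symm).subtypeEquiv fun v => ?_)
  rw [MvPolynomial.map_map, eval_map, ← IsScalarTower.algebraMap_eq]
  rfl

end Groth.L03.LWU
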